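import Mathlib
import Cfsg.Prelude.Def_FusionComponents
import Cfsg.Agent.Lead.FusionNormalCrit
import Cfsg.Agent.Lead.FusionSolvConstr
import Cfsg.Agent.Helper5.CharP
import Cfsg.Agent.Lead.FusionWeak

set_option autoImplicit false

/-!
# S5156 (p-solvable fusion systems), cut C1: `Q C_S(Q)` is normal

If `Q` is normal in the saturated system `E` over `S` and the hyperfocal subgroup meets `C_S(Q)`
inside `Q`, then `Q C_S(Q)` is normal in `E`; being centric, it makes `E` constrained.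
-/

namespace Cfsg.Agent.PSF

open Cfsg Cfsg.FusionSystem Cfsg.Agent.Lead

variable {Ω : Type*} [Group Ω] {S : Subgroup Ω}

/-- A subgroup normal in the system is normalized by `S`. -/
theorem psf_le_normalizer_of_isNormal (E : FusionSystem S) {Q : Subgroup Ω} (hQ : E.IsNormal Q) :
    S ≤ Subgroup.normalizer (Q : Set Ω) := by
  have hsc := Fusion.stronglyClosed_of_isNormal E hQ
  intro g hg
  rw [Subgroup.mem_normalizer_iff]
  have key : ∀ h ∈ S, ∀ y ∈ Q, h * y * h⁻¹ ∈ Q := by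
    intro h hh y hy
    have hφ := E.conj_mem (P := Q) (g := h) hQ.1 hh
    exact hsc.2 Q le_rfl _ hφ ⟨y, hy⟩
  intro y
  constructor
  · exact key g hg y
  · intro hy
    have := key g⁻¹ (S.inv_mem hg) _ hy
    simpa [mul_assoc] using this

/-- `C_S(Q)` is normalized by `S` when `Q` is. -/
theorem psf_centralizerIn_normal {Q : Subgroup Ω}
    (hN : S ≤ Subgroup.normalizer (Q : Set Ω)) :
    S ≤ Subgroup.normalizer ((centralizerIn S Q : Subgroup Ω) : Set Ω) := by
  have key : ∀ g ∈ S, ∀ c ∈ centralizerIn S Q, g * c * g⁻¹ ∈ centralizerIn S Q := by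
    intro g hg c hc
    obtain ⟨hcS, hcC⟩ := Subgroup.mem_inf.mp hc
    refine Subgroup.mem_inf.mpr ⟨S.mul_mem (S.mul_mem hg hcS) (S.inv_mem hg), ?_⟩
    rw [Subgroup.mem_centralizer_iff]
    intro q hq
    have hq' : g⁻¹ * q * g ∈ Q := by
      have := (Subgroup.mem_normalizer_iff.mp (hN (S.inv_mem hg)) q).mp hq
      simpa using this
    have h1 := (Subgroup.mem_centralizer_iff.mp hcC) _ hq'
    calc q * (g * c * g⁻¹) = g * ((g⁻¹ * q * g) * c) * g⁻¹ := by group
      _ = g * (c * (g⁻¹ * q * g)) * g⁻¹ := by rw [h1]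
      _ = g * c * g⁻¹ * q := by group
  intro g hg
  rw [Subgroup.mem_normalizer_iff]
  intro c
  constructor
  · exact key g hg c
  · intro hc
    have := key g⁻¹ (S.inv_mem hg) _ hc
    simpa [mul_assoc] using this


/-- An automorphism `β` of order prime to `p` of a finite `p`-group `P`: if `c = x⁻¹ β(x)` is
fixed by `β` then `c = 1`. -/
theorem psf_fixed_commutator_eq_one {P : Type*} [Group P] [Finite P] {p : ℕ} [Fact p.Prime]
    (hP : IsPGroup p P) (β : MulAut P) (hβ : (orderOf β).Coprime p) (x : P)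
    (hfix : β (x⁻¹ * β x) = x⁻¹ * β x) : β x = x := by
  set c := x⁻¹ * β x with hc
  have hβx : β x = x * c := by rw [hc]; group
  have hpow : ∀ k : ℕ, (β ^ k) x = x * c ^ k := by
    intro k
    induction k with
    | zero => simp
    | succ k ih =>
      rw [pow_succ', MulAut.mul_apply, ih, map_mul, map_pow, hfix, hβx, pow_succ', mul_assoc]
  have h1 := hpow (orderOf β)
  rw [pow_orderOf_eq_one, MulAut.one_apply] at h1
  have h2 : c ^ orderOf β = 1 := by
    have : x * 1 = x * c ^ orderOf β := by rw [mul_one]; exact h1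
    exact (mul_left_cancel this).symm
  obtain ⟨k, hk⟩ := hP c
  have h3 : orderOf c ∣ orderOf β := orderOf_dvd_of_pow_eq_one h2
  have h4 : orderOf c ∣ p ^ k := orderOf_dvd_of_pow_eq_one hk
  have h5 : orderOf c ∣ Nat.gcd (orderOf β) (p ^ k) := Nat.dvd_gcd h3 h4
  have h6 : Nat.gcd (orderOf β) (p ^ k) = 1 := Nat.Coprime.pow_right k hβ
  rw [h6, Nat.dvd_one, orderOf_eq_one_iff] at h5
  rw [hβx, h5, mul_one]


/-- Key step: for `P` centric and radical containing `Q` (normal in `E`), with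
`hyp(E) ∩ C_S(Q) ≤ Q`, every element of `C_S(Q)` normalizing `P` lies in `P`. -/
theorem psf_normalizer_centralizer_le [Finite S] (p : ℕ) [Fact p.Prime] (hS : IsPGroup p S)
    (E : FusionSystem S) {Q P : Subgroup Ω} (hQ : E.IsNormal Q)
    (hc : E.hyperfocalSubgroup p ⊓ centralizerIn S Q ≤ Q)
    (hcen : E.IsCentric P) (hrad : E.IsRadical p P) (hQP : Q ≤ P)
    (hinv : ∀ α ∈ E.autGroup P, (Q.subgroupOf P).map α.toMonoidHom = Q.subgroupOf P)
    (g : Ω) (hgC : g ∈ centralizerIn S Q) (hgN : g ∈ Subgroup.normalizer (P : Set Ω)) :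
    g ∈ P := by
  have hPS := hcen.1
  have hQS := hQ.1
  have hfinP : Finite P := Fusion.finite_of_le hPS
  have hPp : IsPGroup p P := hS.to_le hPS
  have hSN := psf_le_normalizer_of_isNormal E hQ
  -- the subgroup `K` of `Aut_E(P)` of automorphisms fixing `Q` elementwise
  let K : Subgroup (E.autGroup P) :=
    { carrier := {α | ∀ x : P, (x : Ω) ∈ Q → (α : MulAut P) x = x}
      mul_mem' := by
        intro a b ha hb x hx
        show (a : MulAut P) ((b : MulAut P) x) = x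
        rw [hb x hx, ha x hx]
      one_mem' := fun x _ => rfl
      inv_mem' := by
        intro a ha x hx
        show ((a : MulAut P)⁻¹) x = x
        have h := ha x hx
        calc ((a : MulAut P)⁻¹) x = ((a : MulAut P)⁻¹) ((a : MulAut P) x) := by rw [h]
          _ = x := MulAut.inv_apply_self _ _ _ }
  have hKmem : ∀ α : E.autGroup P, α ∈ K ↔ ∀ x : P, (x : Ω) ∈ Q → (α : MulAut P) x = x :=
    fun _ => Iff.rfl
  -- invariance of `Q` under `Aut_E(P)`
  have hQinv : ∀ α ∈ E.autGroup P, ∀ x : P, (x : Ω) ∈ Q → ((α x : P) : Ω) ∈ Q := by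
    intro α hα x hx
    have h1 : α x ∈ (Q.subgroupOf P).map α.toMonoidHom :=
      ⟨x, Subgroup.mem_subgroupOf.mpr hx, rfl⟩
    rw [hinv α hα] at h1
    exact Subgroup.mem_subgroupOf.mp h1
  have hKnormal : K.Normal := by
    constructor
    intro n hn a
    rw [hKmem] at hn ⊢
    intro x hx
    show (a : MulAut P) ((n : MulAut P) (((a : MulAut P)⁻¹) x)) = x
    have h1 : ((((a : MulAut P)⁻¹) x : P) : Ω) ∈ Q :=
      hQinv _ (Subgroup.inv_mem _ a.2) x hx
    rw [hn _ h1, MulAut.apply_inv_self]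
  -- `K` is a `p`-group
  have hKp : IsPGroup p K := by
    apply Cfsg.Agent.Helper5.isPGroup_of_pprime_elements
    intro β hβK hβo
    rw [hKmem] at hβK
    have hβo' : (orderOf (β : MulAut P)).Coprime p := by
      rwa [Subgroup.orderOf_coe]
    have hβres : β ∈ pResidual p (E.autGroup P) := Subgroup.subset_closure hβo
    -- `x⁻¹ β(x)` lies in the hyperfocal subgroup
    have hhyp : ∀ x : P, (x : Ω)⁻¹ * (((β : MulAut P) x : P) : Ω) ∈ E.hyperfocalSubgroup p :=
      fun x => Subgroup.subset_closure ⟨P, β, x, hPS, hβres, rfl⟩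
    -- `β(x)` commutes with `q ∈ Q` when `x` does
    have hcomm : ∀ x : P, (∀ q ∈ Q, q * (x : Ω) = (x : Ω) * q) →
        ∀ q ∈ Q, q * (((β : MulAut P) x : P) : Ω) = (((β : MulAut P) x : P) : Ω) * q := by
      intro x hx q hq
      have hq' : (β : MulAut P) ⟨q, hQP hq⟩ = ⟨q, hQP hq⟩ := hβK ⟨q, hQP hq⟩ hq
      have h1 : (⟨q, hQP hq⟩ : P) * x = x * ⟨q, hQP hq⟩ := Subtype.ext (hx q hq)
      have h2 := congrArg (fun y : P => (((β : MulAut P) y : P) : Ω)) h1
      simp only [map_mul, hq', Subgroup.coe_mul] at h2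
      exact h2
    -- step 1: `β` fixes `C_P(Q)` elementwise
    have hstep1 : ∀ x : P, (∀ q ∈ Q, q * (x : Ω) = (x : Ω) * q) → (β : MulAut P) x = x := by
      intro x hx
      apply psf_fixed_commutator_eq_one hPp (β : MulAut P) hβo' x
      have hcQ : ((x⁻¹ * (β : MulAut P) x : P) : Ω) ∈ Q := by
        apply hc
        refine Subgroup.mem_inf.mpr ⟨hhyp x, Subgroup.mem_inf.mpr ⟨hPS (x⁻¹ * (β : MulAut P) x).2, ?_⟩⟩
        rw [Subgroup.mem_centralizer_iff]
        intro q hq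
        have h1 := hx q hq
        have h2 := hcomm x hx q hq
        show q * ((x : Ω)⁻¹ * (((β : MulAut P) x : P) : Ω)) =
          (x : Ω)⁻¹ * (((β : MulAut P) x : P) : Ω) * q
        have h3 : q * (x : Ω)⁻¹ = (x : Ω)⁻¹ * q := by
          have : (x : Ω)⁻¹ * (q * (x : Ω)) * (x : Ω)⁻¹ = (x : Ω)⁻¹ * ((x : Ω) * q) * (x : Ω)⁻¹ := by
            rw [h1]
          simpa [mul_assoc] using this.symm
        rw [← mul_assoc, h3, mul_assoc, h2, mul_assoc]
      exact hβK _ hcQ
    -- step 2: `β` is trivial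
    have hβ1 : ∀ x : P, (β : MulAut P) x = x := by
      intro x
      apply psf_fixed_commutator_eq_one hPp (β : MulAut P) hβo' x
      apply hstep1
      intro q hq
      -- `x q x⁻¹ ∈ Q` is fixed by `β`
      have hxN : (x : Ω) ∈ Subgroup.normalizer (Q : Set Ω) := hSN (hPS x.2)
      have e1 : (β : MulAut P) ⟨q, hQP hq⟩ = ⟨q, hQP hq⟩ := hβK ⟨q, hQP hq⟩ hq
      have hq2 : (x : Ω) * q * (x : Ω)⁻¹ ∈ Q :=
        (Subgroup.mem_normalizer_iff.mp hxN q).mp hq
      have e1' : (β : MulAut P) ⟨(x : Ω) * q * (x : Ω)⁻¹, hQP hq2⟩ =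
          ⟨(x : Ω) * q * (x : Ω)⁻¹, hQP hq2⟩ := hβK _ hq2
      have e3' : (⟨(x : Ω) * q * (x : Ω)⁻¹, hQP hq2⟩ : P) = x * ⟨q, hQP hq⟩ * x⁻¹ := rfl
      rw [e3', map_mul, map_mul, map_inv, e1] at e1'
      have e4' := congrArg (fun y : P => (y : Ω)) e1'
      simp only [Subgroup.coe_mul, Subgroup.coe_inv] at e4'
      -- e4' : β x * q * (β x)⁻¹ = x * q * x⁻¹
      show q * ((x : Ω)⁻¹ * (((β : MulAut P) x : P) : Ω)) =
        (x : Ω)⁻¹ * (((β : MulAut P) x : P) : Ω) * q
      calc q * ((x : Ω)⁻¹ * (((β : MulAut P) x : P) : Ω))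
          = (x : Ω)⁻¹ * ((x : Ω) * q * (x : Ω)⁻¹) * (((β : MulAut P) x : P) : Ω) := by group
        _ = (x : Ω)⁻¹ * ((((β : MulAut P) x : P) : Ω) * q * ((((β : MulAut P) x : P) : Ω))⁻¹) *
              (((β : MulAut P) x : P) : Ω) := by rw [e4']
        _ = (x : Ω)⁻¹ * (((β : MulAut P) x : P) : Ω) * q := by group
    have : (β : MulAut P) = 1 := by
      ext x
      rw [hβ1 x]
      rfl
    exact Subtype.ext this
  have hKle : K ≤ pCore p (E.autGroup P) := le_sSup ⟨hKnormal, hKp⟩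
  -- conjugation by `g`
  obtain ⟨hgS, hgcen⟩ := Subgroup.mem_inf.mp hgC
  have hcg : conjAutHom P ⟨g, hgN⟩ ∈ E.autGroup P :=
    Fusion.autInducedBy_le_autGroup E hPS (Fusion.conjAutHom_mem_autInducedBy P ⟨g, hgN⟩ hgS)
  have hcgK : (⟨conjAutHom P ⟨g, hgN⟩, hcg⟩ : E.autGroup P) ∈ K := by
    rw [hKmem]
    intro x hx
    apply Subtype.ext
    show g * (x : Ω) * g⁻¹ = x
    have := (Subgroup.mem_centralizer_iff.mp hgcen) x hx
    rw [← this]; group
  have hInn : conjAutHom P ⟨g, hgN⟩ ∈ Inn P := by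
    rw [← hrad.2]
    exact ⟨⟨_, hcg⟩, hKle hcgK, rfl⟩
  exact Fusion.mem_of_conjAutHom_mem_inn E hcen g hgS hgN hInn


/-- If `Q` is normal in the saturated system `E` and `hyp(E) ∩ C_S(Q) ≤ Q`, then `Q C_S(Q)` is
normal in `E`. -/
theorem psf_isNormal_sup_centralizer [Finite S] (p : ℕ) [Fact p.Prime] (hS : IsPGroup p S)
    (E : FusionSystem S) (hE : E.IsSaturated p) {Q : Subgroup Ω} (hQ : E.IsNormal Q)
    (hc : E.hyperfocalSubgroup p ⊓ centralizerIn S Q ≤ Q) :
    E.IsNormal (Q ⊔ centralizerIn S Q) := by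
  have hQS := hQ.1
  have hCS : centralizerIn S Q ≤ S := inf_le_left
  have hSN := psf_le_normalizer_of_isNormal E hQ
  have hCN := psf_centralizerIn_normal hSN
  apply Fusion.isNormal_of_forall_essential p hS E hE
  intro P hP
  obtain ⟨hQP, hinv⟩ := (Fusion.isNormal_iff_essential p hS E hE Q).mp hQ P hP
  have hPS : P ≤ S := by
    rcases hP with rfl | hess
    · exact le_rfl
    · exact hess.1.1
  have hfinP : Finite P := Fusion.finite_of_le hPS
  -- `C_S(Q) ≤ P`
  have hCP : centralizerIn S Q ≤ P := by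
    rcases hP with rfl | hess
    · exact hCS
    · have hcen := hess.1
      have hrad := Fusion.isRadical_of_isEssential p hS E hess
      by_contra hnot
      have hPC : P ⊔ centralizerIn S Q ≤ S := sup_le hPS hCS
      have hne : P ≠ P ⊔ centralizerIn S Q := by
        intro h
        apply hnot
        rw [h]
        exact le_sup_right
      have : Finite ↥(P ⊔ centralizerIn S Q) := Fusion.finite_of_le hPC
      obtain ⟨g, hgT, hgP⟩ := Fusion.exists_mem_normalizerIn_not_mem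
        (S := P ⊔ centralizerIn S Q) (hS.to_le hPC) le_sup_left hne
      obtain ⟨hgPC, hgN⟩ := Subgroup.mem_inf.mp hgT
      have hPN : P ≤ Subgroup.normalizer ((centralizerIn S Q : Subgroup Ω) : Set Ω) :=
        hPS.trans hCN
      obtain ⟨y, hy, c, hcC, rfl⟩ := (mem_sup_iff_of_le_normalizer hPN g).mp hgPC
      have hcN : c ∈ Subgroup.normalizer (P : Set Ω) := by
        have h1 : y⁻¹ ∈ Subgroup.normalizer (P : Set Ω) :=
          Subgroup.inv_mem _ (Subgroup.le_normalizer hy)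
        have h2 := Subgroup.mul_mem _ h1 hgN
        simpa using h2
      have hcP := psf_normalizer_centralizer_le p hS E hQ hc hcen hrad hQP hinv c hcC hcN
      exact hgP (P.mul_mem hy hcP)
  refine ⟨sup_le hQP hCP, fun α hα => ?_⟩
  apply Fusion.map_aut_eq_of_le
  rw [Subgroup.map_le_iff_le_comap]
  intro y hy
  rw [Subgroup.mem_subgroupOf] at hy
  rw [Subgroup.mem_comap, Subgroup.mem_subgroupOf]
  have hQN : Q ≤ Subgroup.normalizer ((centralizerIn S Q : Subgroup Ω) : Set Ω) := hQS.trans hCN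
  obtain ⟨z₁, hz₁, z₂, hz₂, hyz⟩ := (mem_sup_iff_of_le_normalizer hQN (y : Ω)).mp hy
  have e : y = ⟨z₁, hQP hz₁⟩ * ⟨z₂, hCP hz₂⟩ := Subtype.ext hyz
  rw [e, map_mul, Subgroup.coe_mul]
  apply Subgroup.mul_mem
  · apply (le_sup_left : Q ≤ Q ⊔ centralizerIn S Q)
    have h1 : α ⟨z₁, hQP hz₁⟩ ∈ (Q.subgroupOf P).map α.toMonoidHom :=
      ⟨⟨z₁, hQP hz₁⟩, Subgroup.mem_subgroupOf.mpr hz₁, rfl⟩
    rw [hinv α hα] at h1
    exact Subgroup.mem_subgroupOf.mp h1
  · apply (le_sup_right : centralizerIn S Q ≤ Q ⊔ centralizerIn S Q)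
    refine Subgroup.mem_inf.mpr ⟨hPS (α ⟨z₂, hCP hz₂⟩).2, ?_⟩
    rw [Subgroup.mem_centralizer_iff]
    intro q hq
    -- `q = α q'` with `q' ∈ Q`
    have h1 : (⟨q, hQP hq⟩ : P) ∈ (Q.subgroupOf P).map α.toMonoidHom := by
      rw [hinv α hα]
      exact Subgroup.mem_subgroupOf.mpr hq
    obtain ⟨q', hq', hq'eq⟩ := h1
    rw [SetLike.mem_coe, Subgroup.mem_subgroupOf] at hq'
    have hzc := (Subgroup.mem_centralizer_iff.mp (Subgroup.mem_inf.mp hz₂).2) _ hq'
    have h2 : q' * ⟨z₂, hCP hz₂⟩ = ⟨z₂, hCP hz₂⟩ * q' := Subtype.ext hzc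
    have h3 := congrArg (fun w : P => ((α w : P) : Ω)) h2
    simp only [map_mul, Subgroup.coe_mul] at h3
    have h4 : ((α q' : P) : Ω) = q := congrArg (fun w : P => (w : Ω)) hq'eq
    rw [h4] at h3
    exact h3

/-- Under the same hypotheses `E` is constrained. -/
theorem psf_isConstrained_of_isNormal [Finite S] (p : ℕ) [Fact p.Prime] (hS : IsPGroup p S)
    (E : FusionSystem S) (hE : E.IsSaturated p) {Q : Subgroup Ω} (hQ : E.IsNormal Q)
    (hc : E.hyperfocalSubgroup p ⊓ centralizerIn S Q ≤ Q) : E.IsConstrained p := by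
  have hX := psf_isNormal_sup_centralizer p hS E hE hQ hc
  refine ⟨hE, Q ⊔ centralizerIn S Q, hX, hX.1, ?_⟩
  intro X' hconj
  obtain ⟨φ, hφ, hr⟩ := hconj
  have hwc := Fusion.weaklyClosed_of_stronglyClosed E (Fusion.stronglyClosed_of_isNormal E hX)
  have : X' = Q ⊔ centralizerIn S Q := by rw [← hr]; exact hwc.2 φ hφ
  rw [this]
  intro x hx
  obtain ⟨hxS, hxC⟩ := Subgroup.mem_inf.mp hx
  apply (le_sup_right : centralizerIn S Q ≤ Q ⊔ centralizerIn S Q)
  refine Subgroup.mem_inf.mpr ⟨hxS, ?_⟩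
  rw [Subgroup.mem_centralizer_iff] at hxC ⊢
  intro q hq
  exact hxC q ((le_sup_left : Q ≤ Q ⊔ centralizerIn S Q) hq)

end Cfsg.Agent.PSF
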