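import Mathlib
import Cfsg.Prelude.Def_FusionComponents
import Cfsg.Agent.PSF.ConstrUp1
import Cfsg.Agent.Lead.FusionSeries
import Cfsg.Agent.Helper4.FusTrE
import Cfsg.Agent.Helper6.TateF
import Cfsg.Agent.Lead.FusionWeakNormal
import Cfsg.Agent.Helper6.PPowNormD
import Cfsg.Agent.S5120
import Cfsg.Agent.S5145

set_option autoImplicit false

/-!
# S5156 (p-solvable fusion systems), cut C2: constrainedness goes up along `O^p`

If the `p`-residual subsystem `D` of the saturated system `E` is constrained, then `E` is constrained.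
-/

namespace Cfsg.Agent.PSF

open Cfsg Cfsg.FusionSystem Cfsg.Agent.Lead Cfsg.Agent.Helper4.FusTr

section transport

variable {Ω : Type*} [Group Ω] {Ω' : Type*} [Group Ω'] {W : Subgroup Ω} {W' : Subgroup Ω'}
  {e : ↥W ≃* ↥W'} {S : Subgroup Ω} {F : FusionSystem S} {S' : Subgroup Ω'} {F' : FusionSystem S'}

/-- Transport of a subgroup normal in the system. -/
theorem psf_img_isNormal (hF : Img e F F') {Q : Subgroup Ω} (h : F.IsNormal Q) :
    F'.IsNormal (mapS e Q) := by
  obtain ⟨hQS, hext⟩ := h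
  have hQW : Q ≤ W := hQS.trans hF.le
  refine ⟨hF.mapS_le hQS, fun P' φ' hφ' => ?_⟩
  obtain ⟨φ, hφ, hi⟩ := hF.pull hφ' rfl
  obtain ⟨ψ, hψ, hψ1, hψ2⟩ := hext _ φ hφ
  have hP'W : P' ≤ W' := (F'.le_of_mem hφ').1.trans hF.le'
  have hsup : P' ⊔ mapS e Q = mapS e (mapS e.symm P' ⊔ Q) := by
    rw [mapS_sup e hi.le hQW, mapS_mapS_symm e hP'W]
  obtain ⟨ψ', hψ', hj⟩ := hF.push hψ hsup
  refine ⟨ψ', hψ', fun y => ?_, ?_⟩
  · obtain ⟨x, hx⟩ := exists_rel_of_eq_mapS' e hi.le hi.eq y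
    have r1 := hj.app (x := Subgroup.inclusion le_sup_left x)
      (y := Subgroup.inclusion le_sup_left y) hx
    rw [hψ1 x] at r1
    exact rel.unique_right r1 (hi.app hx)
  · ext y'
    constructor
    · rintro ⟨z, hz, rfl⟩
      rw [SetLike.mem_coe, Subgroup.mem_subgroupOf] at hz
      obtain ⟨x, hxQ, hxz⟩ := (mem_mapS e Q _).mp hz
      have hxs : x ∈ mapS e.symm P' ⊔ Q := (le_sup_right : Q ≤ _) hxQ
      have r1 := hj.app (x := ⟨x, hxs⟩) (y := z) hxz
      have h1 : ψ ⟨x, hxs⟩ ∈ Q := by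
        have : ψ ⟨x, hxs⟩ ∈ (Q.subgroupOf (mapS e.symm P' ⊔ Q)).map ψ :=
          ⟨⟨x, hxs⟩, Subgroup.mem_subgroupOf.mpr hxQ, rfl⟩
        rwa [hψ2] at this
      exact mem_mapS_of_rel e r1 h1
    · intro hy'
      obtain ⟨q, hqQ, hqy⟩ := (mem_mapS e Q _).mp hy'
      have h1 : q ∈ (Q.subgroupOf (mapS e.symm P' ⊔ Q)).map ψ := by rw [hψ2]; exact hqQ
      obtain ⟨x, hx, hxq⟩ := h1
      rw [SetLike.mem_coe, Subgroup.mem_subgroupOf] at hx
      obtain ⟨z, hz⟩ := exists_rel_of_eq_mapS e (sup_le hi.le hQW) hsup x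
      have r1 := hj.app hz
      rw [hxq] at r1
      refine ⟨z, ?_, rel.unique_right r1 hqy⟩
      rw [SetLike.mem_coe, Subgroup.mem_subgroupOf]
      exact mem_mapS_of_rel e hz hx

/-- Transport of the largest normal subgroup. -/
theorem psf_img_core [Finite S] (hF : Img e F F') : F'.core = mapS e F.core := by
  have := hF.finite
  apply le_antisymm
  · have h1 : F.IsNormal (mapS e.symm F'.core) :=
      psf_img_isNormal hF.symm (Cfsg.Agent.S5145.result F')
    have h2 : mapS e.symm F'.core ≤ F.core := le_sSup h1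
    have h3 := mapS_mono e h2
    have h4 : F'.core ≤ W' := (Cfsg.Agent.S5145.result F').1.trans hF.le'
    rwa [mapS_mapS_symm e h4] at h3
  · exact le_sSup (psf_img_isNormal hF (Cfsg.Agent.S5145.result F))

end transport

section up

variable {Ω : Type*} [Group Ω] {S : Subgroup Ω}

/-- In a constrained system the largest normal subgroup contains its centralizer. -/
theorem psf_core_centric [Finite S] (p : ℕ) (D : FusionSystem S) (hD : D.IsConstrained p) :
    centralizerIn S D.core ≤ D.core := by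
  obtain ⟨-, Q0, hQ0n, hQ0c⟩ := hD
  have h1 : Q0 ≤ D.core := le_sSup hQ0n
  intro x hx
  obtain ⟨hxS, hxC⟩ := Subgroup.mem_inf.mp hx
  apply h1
  apply hQ0c.2 Q0 (Fusion.isConj_refl D hQ0c.1)
  refine Subgroup.mem_inf.mpr ⟨hxS, ?_⟩
  rw [Subgroup.mem_centralizer_iff] at hxC ⊢
  intro q hq
  exact hxC q (h1 hq)

/-- **Cut C**: if the `p`-residual subsystem of the saturated system `E` is constrained, so is `E`. -/
theorem psf_isConstrained_of_pResidual [Finite S] (p : ℕ) [Fact p.Prime] (hS : IsPGroup p S)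
    (E : FusionSystem S) (hE : E.IsSaturated p) (D : FusionSystem (E.hyperfocalSubgroup p))
    (hD : E.IsPResidual p D) (hDc : D.IsConstrained p) : E.IsConstrained p := by
  obtain ⟨hDs, hDi⟩ := hD
  have hTS : E.hyperfocalSubgroup p ≤ S := Fusion.hyperfocal_le E p
  have hTfin : Finite ↥(E.hyperfocalSubgroup p) := Fusion.finite_of_le hTS
  have hTn : ∀ s ∈ S, ∀ t ∈ E.hyperfocalSubgroup p, s * t * s⁻¹ ∈ E.hyperfocalSubgroup p :=
    fun s hs t ht => Fusion.conj_mem_hyperfocal E p hs ht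
  have hN := Cfsg.Agent.Helper6.PPowNorm.isNormalIn_of_ppower p hS E hE D hDs hDi hTn
  have hR : D.IsNormal D.core := Cfsg.Agent.S5145.result D
  have hX := Fusion.weakNormal_closure_isNormal p hS E hE D hN.1 D.core hR
  set X : Subgroup Ω := Subgroup.closure {x : Ω | ∃ φ ∈ E.Hom D.core, ∃ r : D.core, x = φ r}
    with hXdef
  have hRT : D.core ≤ E.hyperfocalSubgroup p := hR.1
  have hRX : D.core ≤ X := by
    intro r hr
    apply Subgroup.subset_closure
    exact ⟨_, Fusion.subtype_mem E (hRT.trans hTS), ⟨r, hr⟩, rfl⟩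
  apply psf_isConstrained_of_isNormal p hS E hE hX
  intro x hx
  obtain ⟨hxT, hxC⟩ := Subgroup.mem_inf.mp hx
  obtain ⟨hxS, hxC'⟩ := Subgroup.mem_inf.mp hxC
  apply hRX
  apply psf_core_centric p D hDc
  refine Subgroup.mem_inf.mpr ⟨hxT, ?_⟩
  rw [Subgroup.mem_centralizer_iff] at hxC' ⊢
  intro q hq
  exact hxC' q (hRX hq)

end up

end Cfsg.Agent.PSF
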