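import Mathlib
import Cfsg.Prelude.Def_FusionComponents
import Cfsg.Agent.PSF.ConstrUp2
import Cfsg.Agent.Lead.PrimeIdxD

set_option autoImplicit false

/-!
# S5156 (p-solvable fusion systems), cut D: constrainedness goes up along `O^{p'}`

If the `p'`-residual subsystem `E` of the saturated system `F` is constrained, then `F` is
constrained.  The main point is that `E` is invariant in `F` (it is the least saturated subsystem of
index prime to `p`, and this property is preserved by the automorphisms of `F`).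
-/

namespace Cfsg.Agent.PSF

open Cfsg Cfsg.FusionSystem Cfsg.Agent.Lead Cfsg.Agent.Helper4.FusTr

section transport2

variable {Ω : Type*} [Group Ω] {Ω' : Type*} [Group Ω'] {W : Subgroup Ω} {W' : Subgroup Ω'}
  {e : ↥W ≃* ↥W'} {S : Subgroup Ω} {E F : FusionSystem S} {S' : Subgroup Ω'}
  {E' F' : FusionSystem S'}

/-- Transport of the property of having index prime to `p`. -/
theorem psf_img_hasPrimeToPIndexIn (p : ℕ) (hE : Img e E E') (hF : Img e F F')
    (h : E.HasPrimeToPIndexIn F p) : E'.HasPrimeToPIndexIn F' p := by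
  refine ⟨Img.isSubsystemOf hE hF h.1, fun P' hP'S' => ?_⟩
  have hP'W' : P' ≤ W' := hP'S'.trans hF.le'
  set P : Subgroup Ω := mapS e.symm P' with hPdef
  have hPS : P ≤ S := hF.le_of_le hP'S'
  have hPW : P ≤ W := hPS.trans hF.le
  have hP' : P' = mapS e P := (mapS_mapS_symm e hP'W').symm
  rw [Subgroup.map_le_iff_le_comap, Subgroup.closure_le]
  rintro ⟨β', hβ'⟩ ⟨k, hk⟩
  show β' ∈ E'.autGroup P'
  rw [Subgroup.orderOf_mk] at hk
  set β : MulAut ↥P := MulAut.congr (pe e hPW hP').symm β' with hβdef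
  have hrel : AutRel e β β' := autRel_congr_symm hPW hP' β'
  have hβF : β ∈ F.autGroup P := (hF.autGroup_iff hPS hP' hrel).mpr hβ'
  have hord : orderOf β = p ^ k := by
    rw [hβdef, MulEquiv.orderOf_eq]; exact hk
  have hmem : β ∈ (Subgroup.closure {α : ↥(F.autGroup P) | ∃ k : ℕ, orderOf α = p ^ k}).map
      (F.autGroup P).subtype := by
    refine ⟨⟨β, hβF⟩, Subgroup.subset_closure ⟨k, ?_⟩, rfl⟩
    rw [Subgroup.orderOf_mk]; exact hord
  exact (hE.autGroup_iff hPS hP' hrel).mp (h.2 P hPS hmem)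

end transport2

section up2

variable {Ω : Type*} [Group Ω] {S : Subgroup Ω}

/-- An automorphism of `S` belonging to the system carries the system onto itself. -/
theorem psf_img_self (F : FusionSystem S) (α : MulAut ↥S) (hα : α ∈ F.autGroup S) :
    Img (W := S) (W' := S) α F F := by
  have hγ : S.subtype.comp α.toMonoidHom ∈ F.Hom S := (Fusion.mem_autGroup_iff F le_rfl α).mp hα
  have he : ∀ x : ↥S, rel (W := S) (W' := S) α (x : Ω) ((S.subtype.comp α.toMonoidHom) x) :=
    fun x => rel_mk (W := S) (W' := S) α x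
  refine ⟨le_rfl, (mapS_self (W := S) (W' := S) α).symm, fun {P P' φ φ'} _ hi => ⟨fun hφ => ?_,
    fun hφ' => ?_⟩⟩
  · exact hom_conj_mem F α hγ he hi hφ (F.le_of_mem hφ).2
  · exact hom_conj_mem' F α hγ he hi hφ' (F.le_of_mem hφ').2

/-- The `p'`-residual subsystem is contained in each of its transports along automorphisms of the
system. -/
theorem psf_pPrimeResidual_le_img [Finite S] (p : ℕ) [Fact p.Prime] (hS : IsPGroup p S)
    (F : FusionSystem S) (hF : F.IsSaturated p) (E : FusionSystem S)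
    (hE : F.IsPPrimeResidual p E) (β : MulAut ↥S) (hβ : β ∈ F.autGroup S)
    (S' : Subgroup Ω) (hS' : S' = S) (E' : FusionSystem S')
    (hE' : Img (W := S) (W' := S) β E E') : ∀ P : Subgroup Ω, E.Hom P ⊆ E'.Hom P := by
  subst hS'
  have hFF := psf_img_self F β hβ
  have h1 : E'.IsSaturated p := Img.isSaturated p hS hE' hE.1
  have h2 : E'.HasPrimeToPIndexIn F p := psf_img_hasPrimeToPIndexIn p hE' hFF hE.2.1
  exact hE.2.2 E' h1 h2

/-- The `p'`-residual subsystem is carried onto itself by the automorphisms of the system. -/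
theorem psf_pPrimeResidual_img_self [Finite S] (p : ℕ) [Fact p.Prime] (hS : IsPGroup p S)
    (F : FusionSystem S) (hF : F.IsSaturated p) (E : FusionSystem S)
    (hE : F.IsPPrimeResidual p E) (α : MulAut ↥S) (hα : α ∈ F.autGroup S) :
    Img (W := S) (W' := S) α E E := by
  have hself : ∀ β : MulAut ↥S, mapS (W := S) (W' := S) β S = S :=
    fun β => mapS_self (W := S) (W' := S) β
  refine ⟨le_rfl, (hself α).symm, fun {P P' φ φ'} _ hi => ⟨fun hφ => ?_, fun hφ' => ?_⟩⟩
  · -- transport along `α⁻¹`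
    have hα' : α⁻¹ ∈ F.autGroup S := Subgroup.inv_mem _ hα
    obtain ⟨E'', hE''⟩ := exists_img (W := S) (W' := S) (α⁻¹ : MulAut ↥S) E le_rfl
    have hle := psf_pPrimeResidual_le_img p hS F hF E hE α⁻¹ hα' _ (hself α⁻¹) E'' hE''
    have hback : Img (W := S) (W' := S) α E'' E := hE''.symm
    exact (hback.iff hi).mp (hle P hφ)
  · obtain ⟨E'', hE''⟩ := exists_img (W := S) (W' := S) α E le_rfl
    have hle := psf_pPrimeResidual_le_img p hS F hF E hE α hα _ (hself α) E'' hE''
    exact (hE''.iff hi).mpr (hle P' hφ')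

/-- The `p'`-residual subsystem is invariant in the system. -/
theorem psf_pPrimeResidual_isInvariantIn [Finite S] (p : ℕ) [Fact p.Prime] (hS : IsPGroup p S)
    (F : FusionSystem S) (hF : F.IsSaturated p) (E : FusionSystem S)
    (hE : F.IsPPrimeResidual p E) : E.IsInvariantIn F := by
  have hsub := hE.2.1.1
  have hmain := Cfsg.Agent.Lead.PrimeIdx.main p hS F hF E hsub (fun P hP => hE.2.1.2 P hP.1)
  refine ⟨hsub, ⟨le_rfl, fun R _ φ hφ x => (F.le_of_mem hφ).2 x⟩, ?_, ?_⟩
  · intro P hPS φ hφ α hα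
    have himg := psf_pPrimeResidual_img_self p hS F hF E hE α hα
    obtain ⟨φ', hφ', hi⟩ := himg.push hφ (P' := mapS (W := S) (W' := S) α P) rfl
    refine ⟨φ', hφ', fun x hφx hαx => ?_⟩
    have r0 : rel (W := S) (W' := S) α ((x : ↥P) : Ω) ((α ⟨x, hPS x.2⟩ : ↥S) : Ω) :=
      rel_of_mem (W := S) (W' := S) α (hPS x.2)
    have r1 := hi.app (x := x) (y := ⟨((α ⟨x, hPS x.2⟩ : ↥S) : Ω), hαx⟩) r0
    exact rel.unique_right r1 (rel_of_mem (W := S) (W' := S) α hφx)
  · intro P _ φ hφ
    exact hmain.2.1 P φ hφ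

/-- **Cut D**: if the `p'`-residual subsystem of the saturated system `F` is constrained, so is
`F`. -/
theorem psf_isConstrained_of_pPrimeResidual [Finite S] (p : ℕ) [Fact p.Prime] (hS : IsPGroup p S)
    (F : FusionSystem S) (hF : F.IsSaturated p) (E : FusionSystem S)
    (hE : F.IsPPrimeResidual p E) (hEc : E.IsConstrained p) : F.IsConstrained p := by
  have hinv := psf_pPrimeResidual_isInvariantIn p hS F hF E hE
  have hR : E.IsNormal E.core := Cfsg.Agent.S5145.result E
  have hX := Fusion.weakNormal_closure_isNormal p hS F hF E ⟨hE.1, hF, hinv⟩ E.core hR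
  set X : Subgroup Ω := Subgroup.closure {x : Ω | ∃ φ ∈ F.Hom E.core, ∃ r : E.core, x = φ r}
    with hXdef
  have hRX : E.core ≤ X := by
    intro r hr
    apply Subgroup.subset_closure
    exact ⟨_, Fusion.subtype_mem F hR.1, ⟨r, hr⟩, rfl⟩
  refine ⟨hF, X, hX, hX.1, ?_⟩
  intro X' hconj
  obtain ⟨φ, hφ, hr⟩ := hconj
  have hwc := Fusion.weaklyClosed_of_stronglyClosed F (Fusion.stronglyClosed_of_isNormal F hX)
  have hXX' : X' = X := by rw [← hr]; exact hwc.2 φ hφ
  rw [hXX']
  intro x hx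
  obtain ⟨hxS, hxC⟩ := Subgroup.mem_inf.mp hx
  apply hRX
  apply psf_core_centric p E hEc
  refine Subgroup.mem_inf.mpr ⟨hxS, ?_⟩
  rw [Subgroup.mem_centralizer_iff] at hxC ⊢
  intro q hq
  exact hxC q (hRX hq)

end up2

end Cfsg.Agent.PSF
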