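import Mathlib
import Cfsg.Prelude.Def_FusionComponents
import Cfsg.Agent.PSF.ConstrUp3

set_option autoImplicit false

/-!
# S5156 (p-solvable fusion systems): the bridge between a realized fusion system and the fusion
system of the realizing group (transport along `S ≃ ι(S)`), and transport of the residual predicates.
-/

namespace Cfsg.Agent.PSF

open Cfsg Cfsg.FusionSystem Cfsg.Agent.Lead Cfsg.Agent.Helper4.FusTr

section bridge

variable {Ω : Type*} [Group Ω] {S : Subgroup Ω}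

/-- The graph of `S ≃ ι(S)` is the graph of `ι`. -/
theorem psf_rel_ofInjective {G : Type*} [Group G] (ι : S →* G) (hinj : Function.Injective ι)
    (x : Ω) (y : G) :
    rel (W := S) (W' := ι.range) (MonoidHom.ofInjective hinj) x y ↔ ∃ hx : x ∈ S, ι ⟨x, hx⟩ = y := by
  constructor
  · rintro ⟨hx, h⟩
    exact ⟨hx, h⟩
  · rintro ⟨hx, h⟩
    exact ⟨hx, h⟩

/-- Br1: the image of a realized system along `S ≃ ι(S)` is `F_{ι S}(G)`. -/
theorem psf_realized_img (F : FusionSystem S) {G : Type*} [Group G] (ι : S →* G)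
    (hι : F.IsRealizedBy ι) :
    Img (W := S) (W' := ι.range) (MonoidHom.ofInjective hι.1) F (groupFusionSystem ι.range) := by
  set e : ↥S ≃* ↥ι.range := MonoidHom.ofInjective hι.1 with he
  refine ⟨le_rfl, (mapS_self (W := S) (W' := ι.range) e).symm, fun {P P' φ φ'} hPS hi => ?_⟩
  have hφS : ∀ x : ↥P, φ x ∈ S := fun x => hi.map_mem_left x
  rw [hι.2 P hPS φ hφS]
  constructor
  · rintro ⟨g, hg⟩
    refine ⟨hi.eq ▸ mapS_le e P, fun y => hi.map_mem_right y, g, fun y => ?_⟩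
    obtain ⟨x, hx⟩ := exists_rel_of_eq_mapS' e hi.1 hi.eq y
    obtain ⟨h1, h2⟩ := (psf_rel_ofInjective ι hι.1 _ _).mp hx
    obtain ⟨h3, h4⟩ := (psf_rel_ofInjective ι hι.1 _ _).mp (hi.app hx)
    rw [← h4, ← h2]
    exact hg x
  · rintro ⟨-, -, g, hg⟩
    refine ⟨g, fun x => ?_⟩
    obtain ⟨y, hy⟩ := exists_rel_of_eq_mapS e hi.1 hi.eq x
    obtain ⟨h1, h2⟩ := (psf_rel_ofInjective ι hι.1 _ _).mp hy
    obtain ⟨h3, h4⟩ := (psf_rel_ofInjective ι hι.1 _ _).mp (hi.app hy)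
    rw [h4, h2]
    exact hg y

/-- Br2: a system whose image is `F_{T'}(H)` is realized by the restriction of `ι`. -/
theorem psf_isRealizedBy_of_img {T : Subgroup Ω} (hTS : T ≤ S) (E : FusionSystem T) {G : Type*} [Group G]
    (ι : S →* G) (hinj : Function.Injective ι) (H T' : Subgroup G) (hT'H : T' ≤ H)
    (hE : Img (W := S) (W' := ι.range) (MonoidHom.ofInjective hinj) E
      (fusionSystemOfSubgroup H T' hT'H))
    (ιT : T →* ↥H) (hιT : ∀ x : T, ((ιT x : ↥H) : G) = ι ⟨x, hTS x.2⟩) : E.IsRealizedBy ιT := by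
  set e : ↥S ≃* ↥ι.range := MonoidHom.ofInjective hinj with he
  refine ⟨fun a b hab => ?_, fun P hP φ hφ => ?_⟩
  · have h1 : ι ⟨a, hTS a.2⟩ = ι ⟨b, hTS b.2⟩ := by
      rw [← hιT a, ← hιT b, hab]
    have h2 := hinj h1
    have h3 : ((⟨(a : Ω), hTS a.2⟩ : ↥S) : Ω) = ((⟨(b : Ω), hTS b.2⟩ : ↥S) : Ω) :=
      congrArg Subtype.val h2
    exact Subtype.ext h3
  · have hPS : P ≤ S := hP.trans hTS
    obtain ⟨φ', hi⟩ := Ind.exists e φ hPS (fun x => hTS (hφ x)) (P' := mapS e P) rfl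
    rw [hE.iff hi]
    constructor
    · rintro ⟨-, -, g, hgH, hg⟩
      refine ⟨⟨g, hgH⟩, fun x => Subtype.ext ?_⟩
      obtain ⟨y, hy⟩ := exists_rel_of_eq_mapS e hi.1 hi.eq x
      obtain ⟨h1, h2⟩ := (psf_rel_ofInjective ι hinj _ _).mp hy
      obtain ⟨h3, h4⟩ := (psf_rel_ofInjective ι hinj _ _).mp (hi.app hy)
      show ((ιT ⟨φ x, hφ x⟩ : ↥H) : G) = g * ((ιT ⟨x, hP x.2⟩ : ↥H) : G) * g⁻¹
      rw [hιT, hιT]
      show ι ⟨φ x, _⟩ = g * ι ⟨x, _⟩ * g⁻¹
      rw [h4, h2]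
      exact hg y
    · rintro ⟨g, hg⟩
      refine ⟨hE.eq ▸ mapS_mono e hP, fun y => ?_, (g : G), g.2, fun y => ?_⟩
      · rw [hE.eq]
        exact hi.map_mem hφ y
      · obtain ⟨x, hx⟩ := exists_rel_of_eq_mapS' e hi.1 hi.eq y
        obtain ⟨h1, h2⟩ := (psf_rel_ofInjective ι hinj _ _).mp hx
        obtain ⟨h3, h4⟩ := (psf_rel_ofInjective ι hinj _ _).mp (hi.app hx)
        rw [← h4, ← h2]
        have h5 := congrArg (Subtype.val : ↥H → G) (hg x)
        have h6 : ((ιT ⟨φ x, hφ x⟩ : ↥H) : G) = (g : G) * ((ιT ⟨x, hP x.2⟩ : ↥H) : G) * (g : G)⁻¹ := h5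
        rw [hιT, hιT] at h6
        exact h6

/-- Br3: `Img` only depends on the maps of the target. -/
theorem psf_img_of_hom_eq {Ω' : Type*} [Group Ω'] {W : Subgroup Ω} {W' : Subgroup Ω'} {e : ↥W ≃* ↥W'}
    {T : Subgroup Ω} {E : FusionSystem T} {T' T'' : Subgroup Ω'} {E' : FusionSystem T'}
    {E'' : FusionSystem T''} (h : Img e E E') (hT : T'' = T')
    (hH : ∀ P : Subgroup Ω', E'.Hom P = E''.Hom P) : Img e E E'' := by
  subst hT
  refine ⟨h.le, h.eq, fun {P P' φ φ'} hP hi => ?_⟩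
  rw [← hH P']
  exact h.iff' hP hi

/-- Br4: transport of `p`-power index. -/
theorem psf_img_hasPPowerIndexIn {Ω' : Type*} [Group Ω'] {W : Subgroup Ω} {W' : Subgroup Ω'}
    {e : ↥W ≃* ↥W'} [Finite S] (p : ℕ) [Fact p.Prime] (hS : IsPGroup p S) {F : FusionSystem S}
    (hFs : F.IsSaturated p) {T : Subgroup Ω}
    {E : FusionSystem T} {S' T' : Subgroup Ω'} {F' : FusionSystem S'} {E' : FusionSystem T'}
    (hE : Img e E E') (hF : Img e F F') (h : E.HasPPowerIndexIn F p) : E'.HasPPowerIndexIn F' p := by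
  refine ⟨Img.isSubsystemOf hE hF h.1, ?_, fun P' hP'T' => ?_⟩
  · rw [Img.hyperfocal p hS hF hFs, hE.eq]
    exact mapS_mono e h.2.1
  · have hP'W' : P' ≤ W' := hP'T'.trans hE.le'
    set P : Subgroup Ω := mapS e.symm P' with hPdef
    have hPT : P ≤ T := hE.le_of_le hP'T'
    have hTS : T ≤ S := Fusion.le_of_isSubsystemOf E F h.1
    have hPS : P ≤ S := hPT.trans hTS
    have hPW : P ≤ W := hPT.trans hE.le
    have hP' : P' = mapS e P := (mapS_mapS_symm e hP'W').symm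
    rw [Subgroup.map_le_iff_le_comap]
    unfold Cfsg.pResidual
    rw [Subgroup.closure_le]
    rintro ⟨β', hβ'⟩ hco
    show β' ∈ E'.autGroup P'
    have hco' : (orderOf β').Coprime p := by
      have h0 : (orderOf (⟨β', hβ'⟩ : ↥(F'.autGroup P'))).Coprime p := hco
      rw [Subgroup.orderOf_mk] at h0
      exact h0
    set β : MulAut ↥P := MulAut.congr (pe e hPW hP').symm β' with hβdef
    have hrel : AutRel e β β' := autRel_congr_symm hPW hP' β'
    have hβF : β ∈ F.autGroup P := (hF.autGroup_iff hPS hP' hrel).mpr hβ'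
    have hord : orderOf β = orderOf β' := by
      rw [hβdef, MulEquiv.orderOf_eq]
    have hmem : β ∈ (Cfsg.pResidual p ↥(F.autGroup P)).map (F.autGroup P).subtype := by
      refine ⟨⟨β, hβF⟩, Subgroup.subset_closure ?_, rfl⟩
      show (orderOf (⟨β, hβF⟩ : ↥(F.autGroup P))).Coprime p
      rw [Subgroup.orderOf_mk, hord]
      exact hco'
    exact (hE.autGroup_iff hPT hP' hrel).mp (h.2.2 P hPT hmem)

/-- Auxiliary form of the minimality clause of Br5, with a free base subgroup. -/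
theorem psf_img_isPPrimeResidual_aux {Ω' : Type*} [Group Ω'] {W : Subgroup Ω} {W' : Subgroup Ω'}
    {e : ↥W ≃* ↥W'} [Finite S] (p : ℕ) [Fact p.Prime] (hS : IsPGroup p S) {E F : FusionSystem S}
    {S' : Subgroup Ω'} {E' F' D' : FusionSystem S'} (hE : Img e E E') (hF : Img e F F')
    (h : F.IsPPrimeResidual p E) (hD's : D'.IsSaturated p) (hD'i : D'.HasPrimeToPIndexIn F' p)
    (S₀ : Subgroup Ω) (hS₀ : S₀ = S) (D : FusionSystem S₀) (hD : Img e.symm D' D) :
    E'.IsSubsystemOf D' := by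
  subst hS₀
  have : Finite ↥S' := Img.finite hF
  have hS' : IsPGroup p ↥S' := Img.isPGroup hF hS
  have h1 : D.IsSaturated p := Img.isSaturated p hS' hD hD's
  have h2 : D.HasPrimeToPIndexIn F p := psf_img_hasPrimeToPIndexIn p hD hF.symm hD'i
  have h3 : E.IsSubsystemOf D := h.2.2 D h1 h2
  exact Img.isSubsystemOf hE hD.of_symm h3

/-- Br5: transport of the `p'`-residual predicate. -/
theorem psf_img_isPPrimeResidual {Ω' : Type*} [Group Ω'] {W : Subgroup Ω} {W' : Subgroup Ω'}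
    {e : ↥W ≃* ↥W'} [Finite S] (p : ℕ) [Fact p.Prime] (hS : IsPGroup p S) {E F : FusionSystem S}
    {S' : Subgroup Ω'} {E' F' : FusionSystem S'} (hE : Img e E E') (hF : Img e F F')
    (h : F.IsPPrimeResidual p E) : F'.IsPPrimeResidual p E' := by
  refine ⟨Img.isSaturated p hS hE h.1, psf_img_hasPrimeToPIndexIn p hE hF h.2.1, fun D' hD's hD'i => ?_⟩
  obtain ⟨D, hD⟩ := exists_img e.symm D' hF.le'
  exact psf_img_isPPrimeResidual_aux p hS hE hF h hD's hD'i _ hF.eq'.symm D hD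

end bridge

end Cfsg.Agent.PSF
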