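import Mathlib
import Cfsg.Prelude.Def_Transfer
import Cfsg.Prelude.Def_Local
import Cfsg.Prelude.Def_Solvable
import Cfsg.Agent.Helper5.PResidual
import Cfsg.Agent.Helper5.CharP
import Cfsg.Agent.Helper1.QCoreC
import Cfsg.Agent.Helper4.PSolvable
import Cfsg.Agent.Helper4.OrbitSpanA
import Cfsg.Agent.Lead.PSolvC

/-!
Group side of S5156 (helper7, for helper9's chain in `notes/S5156_helper9.md`).

`psfG1 p G = O^{p'}(G)` (generated by the elements of `p`-power order) and
`psfG2 p G = O^p(O^{p'}(G))`, as subgroups of `G`, with: characteristic/normal, indices,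
characteristic `p` is inherited, `p`-solvability goes up and down, strict descent of the order for a
nontrivial `p`-solvable group, lifting of `p`-elements along a homomorphism, and the image of `psfG1`
under a homomorphism.
-/

set_option autoImplicit false

universe u

namespace Cfsg.Agent.PSF

variable {G : Type*} [Group G]

/-! ### `psfG1 = O^{p'}(G)` -/

/-- `O^{p'}(G)`: the subgroup generated by the elements of `p`-power order. -/
def psfG1 (p : ℕ) (G : Type*) [Group G] : Subgroup G :=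
  Subgroup.closure {g : G | ∃ k : ℕ, orderOf g = p ^ k}

theorem psf_mem_G1_of_pElt {p : ℕ} {g : G} (hg : ∃ k : ℕ, orderOf g = p ^ k) : g ∈ psfG1 p G :=
  Subgroup.subset_closure hg

theorem psfG1_characteristic (p : ℕ) : (psfG1 p G).Characteristic := by
  rw [Subgroup.characteristic_iff_map_le]
  intro φ
  unfold psfG1
  rw [MonoidHom.map_closure, Subgroup.closure_le]
  rintro _ ⟨g, hg, rfl⟩
  apply Subgroup.subset_closure
  simp only [Set.mem_setOf_eq, MulEquiv.coe_toMonoidHom] at hg ⊢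
  rw [MulEquiv.orderOf_eq]; exact hg

instance psfG1_normal (p : ℕ) : (psfG1 p G).Normal :=
  haveI := psfG1_characteristic (G := G) p
  Subgroup.normal_of_characteristic _

/-- An element killed by a power of the prime `p` has `p`-power order. -/
theorem psf_pElt_of_pow_eq_one {p : ℕ} [hp : Fact p.Prime] {g : G} {k : ℕ} (h : g ^ p ^ k = 1) :
    ∃ j : ℕ, orderOf g = p ^ j := by
  obtain ⟨j, _, hj⟩ := (Nat.dvd_prime_pow hp.out).mp (orderOf_dvd_of_pow_eq_one h)
  exact ⟨j, hj⟩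

/-- The image of a `p`-element under a homomorphism is a `p`-element. -/
theorem psf_pElt_map {p : ℕ} [hp : Fact p.Prime] {A : Type*} [Group A] (f : G →* A) {g : G}
    (hg : ∃ k : ℕ, orderOf g = p ^ k) : ∃ j : ℕ, orderOf (f g) = p ^ j := by
  obtain ⟨k, hk⟩ := hg
  apply psf_pElt_of_pow_eq_one (k := k)
  rw [← map_pow, ← hk, pow_orderOf_eq_one, map_one]

/-- Every `p`-subgroup lies in `O^{p'}(G)`. -/
theorem psf_le_G1_of_isPGroup' {p : ℕ} [Fact p.Prime] {Q : Subgroup G} (hQ : IsPGroup p Q) :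
    Q ≤ psfG1 p G := by
  intro g hg
  obtain ⟨k, hk⟩ := hQ ⟨g, hg⟩
  have hk' : g ^ p ^ k = 1 := by simpa using congrArg Subtype.val hk
  exact psf_mem_G1_of_pElt (psf_pElt_of_pow_eq_one hk')

theorem psf_sylow_le_G1 {p : ℕ} [Fact p.Prime] (P : Sylow p G) :
    (P : Subgroup G) ≤ psfG1 p G :=
  psf_le_G1_of_isPGroup' P.2

/-- Induction over `O^{p'}(G)`: a predicate that holds at `1`, at the `p`-elements, and is closed under
products, holds on `psfG1 p G`. -/
theorem psf_G1_induction {p : ℕ} {C : G → Prop} (h1 : C 1)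
    (hp : ∀ x : G, (∃ k : ℕ, orderOf x = p ^ k) → C x)
    (hmul : ∀ x y : G, C x → C y → C (x * y)) : ∀ g ∈ psfG1 p G, C g := by
  intro g hg
  have hg' : g ∈ (psfG1 p G).toSubmonoid := hg
  unfold psfG1 at hg'
  rw [Subgroup.closure_toSubmonoid] at hg'
  have hS : ({g : G | ∃ k : ℕ, orderOf g = p ^ k} ∪ {g : G | ∃ k : ℕ, orderOf g = p ^ k}⁻¹) =
      {g : G | ∃ k : ℕ, orderOf g = p ^ k} := by
    ext x
    simp only [Set.mem_union, Set.mem_setOf_eq, Set.mem_inv, orderOf_inv, or_self]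
  rw [hS] at hg'
  exact Submonoid.closure_induction (motive := fun x _ => C x) (fun x hx => hp x hx) h1
    (fun x y _ _ hx hy => hmul x y hx hy) hg'

/-- The image of `O^{p'}(G)` under a homomorphism is generated by `p`-elements of the image. -/
theorem psf_map_G1_le {p : ℕ} [Fact p.Prime] {A : Type*} [Group A] (f : G →* A) :
    (psfG1 p G).map f ≤ Subgroup.closure {a : A | a ∈ f.range ∧ ∃ k : ℕ, orderOf a = p ^ k} := by
  unfold psfG1
  rw [MonoidHom.map_closure, Subgroup.closure_le]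
  rintro _ ⟨g, hg, rfl⟩
  exact Subgroup.subset_closure ⟨⟨g, rfl⟩, psf_pElt_map f hg⟩

/-- Conjugation on a normal subgroup `Q`: every element of `O^{p'}(G)` induces on `Q` a product of
`p`-elements of the image of `G` in `Aut(Q)`. -/
theorem psf_conjNormal_mem {p : ℕ} [Fact p.Prime] (Q : Subgroup G) [Q.Normal] {g : G}
    (hg : g ∈ psfG1 p G) :
    (MulAut.conjNormal g : MulAut Q) ∈ Subgroup.closure
      {a : MulAut Q | a ∈ (MulAut.conjNormal : G →* MulAut Q).range ∧ ∃ k : ℕ, orderOf a = p ^ k} :=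
  psf_map_G1_le (MulAut.conjNormal : G →* MulAut Q) ⟨g, hg, rfl⟩

/-! ### `psfG2 = O^p(O^{p'}(G))` -/

/-- `O^p(O^{p'}(G))` as a subgroup of `G`. -/
def psfG2 (p : ℕ) (G : Type*) [Group G] : Subgroup G :=
  (Cfsg.pResidual p ↥(psfG1 p G)).map (psfG1 p G).subtype

theorem psfG2_le_G1 (p : ℕ) : psfG2 p G ≤ psfG1 p G :=
  Subgroup.map_subtype_le _

theorem psfG2_characteristic (p : ℕ) : (psfG2 p G).Characteristic := by
  have h1 := psfG1_characteristic (G := G) p
  have h2 := Cfsg.Agent.Helper5.pResidual_characteristic (G := ↥(psfG1 p G)) p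
  exact Subgroup.characteristic_of_characteristic_of_characteristic

instance psfG2_normal (p : ℕ) : (psfG2 p G).Normal :=
  haveI := psfG2_characteristic (G := G) p
  Subgroup.normal_of_characteristic _

/-- `psfG2 p G`, as a group, is `O^p` of the group `psfG1 p G`. -/
noncomputable def psfG2Equiv (p : ℕ) (G : Type*) [Group G] :
    ↥(psfG2 p G) ≃* ↥(Cfsg.pResidual p ↥(psfG1 p G)) :=
  ((Cfsg.pResidual p ↥(psfG1 p G)).equivMapOfInjective (psfG1 p G).subtype
    (psfG1 p G).subtype_injective).symm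

theorem psfG2Equiv_symm_coe (p : ℕ) (y : ↥(Cfsg.pResidual p ↥(psfG1 p G))) :
    (((psfG2Equiv p G).symm y : ↥(psfG2 p G)) : G) = ((y : ↥(psfG1 p G)) : G) := by
  exact Subgroup.coe_equivMapOfInjective_apply (Cfsg.pResidual p ↥(psfG1 p G)) (psfG1 p G).subtype
    (psfG1 p G).subtype_injective y

theorem psfG2Equiv_coe (p : ℕ) (x : ↥(psfG2 p G)) :
    (((psfG2Equiv p G x : ↥(Cfsg.pResidual p ↥(psfG1 p G))) : ↥(psfG1 p G)) : G) = (x : G) := by
  have h := psfG2Equiv_symm_coe p ((psfG2Equiv p G) x)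
  rw [MulEquiv.symm_apply_apply] at h
  exact h.symm

/-- `psfG2 p G` is generated by the `p'`-elements of `psfG1 p G`. -/
theorem psfG2_eq_closure (p : ℕ) :
    psfG2 p G = Subgroup.closure {g : G | g ∈ psfG1 p G ∧ (orderOf g).Coprime p} :=
  Cfsg.Agent.Helper5.map_subtype_pResidual p (psfG1 p G)

theorem psfG2_le_pResidual (p : ℕ) : psfG2 p G ≤ Cfsg.pResidual p G := by
  rw [psfG2_eq_closure]
  exact Subgroup.closure_mono fun g hg => hg.2

theorem psf_mem_G2_of_coprime {p : ℕ} {g : G} (h1 : g ∈ psfG1 p G) (h2 : (orderOf g).Coprime p) :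
    g ∈ psfG2 p G := by
  rw [psfG2_eq_closure]
  exact Subgroup.subset_closure ⟨h1, h2⟩

/-! ### Indices -/

theorem psf_index_G1_coprime [Finite G] (p : ℕ) [hp : Fact p.Prime] :
    (psfG1 p G).index.Coprime p := by
  obtain ⟨P⟩ : Nonempty (Sylow p G) := inferInstance
  have h1 : (psfG1 p G).index ∣ (P : Subgroup G).index :=
    Subgroup.index_dvd_of_le (psf_sylow_le_G1 P)
  rw [Nat.coprime_comm, hp.out.coprime_iff_not_dvd]
  exact fun h => P.not_dvd_index (h.trans h1)

theorem psf_relIndex_G2_G1 [Finite G] (p : ℕ) [Fact p.Prime] :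
    ∃ k : ℕ, (psfG2 p G).relIndex (psfG1 p G) = p ^ k := by
  obtain ⟨k, hk⟩ := Cfsg.Agent.Helper5.index_pResidual (G := ↥(psfG1 p G)) p
  refine ⟨k, ?_⟩
  rw [← hk]
  unfold psfG2 Subgroup.relIndex
  congr 1
  ext x
  simp only [Subgroup.mem_subgroupOf, Subgroup.mem_map, Subgroup.coe_subtype]
  constructor
  · rintro ⟨y, hy, hyx⟩
    have : y = x := Subtype.ext hyx
    rwa [← this]
  · intro hx
    exact ⟨x, hx, rfl⟩

/-! ### Sylow subgroups of `psfG1`, and of normal subgroups -/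

/-- A Sylow `p`-subgroup of a finite group meets a normal subgroup in a Sylow `p`-subgroup of it. -/
theorem psf_sylow_of_normal [Finite G] {p : ℕ} [hp : Fact p.Prime] (N : Subgroup G) [N.Normal]
    (T : Sylow p G) :
    ∃ T' : Sylow p ↥N, (T' : Subgroup ↥N) = (T : Subgroup G).subgroupOf N := by
  have hpg : IsPGroup p ((T : Subgroup G).subgroupOf N) := T.2.comap_subtype
  have hidx : ¬ p ∣ ((T : Subgroup G).subgroupOf N).index := by
    intro h
    apply T.not_dvd_index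
    have h1 : ((T : Subgroup G).subgroupOf N).index = (T : Subgroup G).relIndex N := rfl
    rw [h1] at h
    -- `T.relIndex N = T.relIndex (T ⊔ N)` divides `T.index`
    have h2 : (T : Subgroup G).relIndex N ∣ (T : Subgroup G).index := by
      have h3 : (T : Subgroup G).relIndex ((T : Subgroup G) ⊔ N) = (T : Subgroup G).relIndex N := by
        have e1 := Subgroup.relIndex_mul_relIndex ((T : Subgroup G) ⊓ N) (T : Subgroup G)
          ((T : Subgroup G) ⊔ N) inf_le_left le_sup_left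
        have e2 := Subgroup.relIndex_mul_relIndex ((T : Subgroup G) ⊓ N) N
          ((T : Subgroup G) ⊔ N) inf_le_right le_sup_right
        rw [Subgroup.inf_relIndex_left, ← Subgroup.relIndex_sup_right (K := N) (H := (T : Subgroup G))]
          at e1
        rw [Subgroup.inf_relIndex_right] at e2
        have hne : N.relIndex ((T : Subgroup G) ⊔ N) ≠ 0 := by
          show (N.subgroupOf ((T : Subgroup G) ⊔ N)).index ≠ 0
          exact Subgroup.index_ne_zero_of_finite
        have e3 : N.relIndex ((T : Subgroup G) ⊔ N) * (T : Subgroup G).relIndex ((T : Subgroup G) ⊔ N)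
            = N.relIndex ((T : Subgroup G) ⊔ N) * (T : Subgroup G).relIndex N := by
          rw [e1, ← e2, mul_comm]
        exact Nat.eq_of_mul_eq_mul_left (Nat.pos_of_ne_zero hne) e3
      rw [← h3]
      exact Dvd.intro _ (Subgroup.relIndex_mul_index (le_sup_left : (T : Subgroup G) ≤ (T : Subgroup G) ⊔ N))
    exact h.trans h2
  exact ⟨hpg.toSylow hidx, by simp⟩

/-- The Sylow `p`-subgroups of `psfG1 p G` are those of `G`. -/
theorem psf_sylow_G1 {p : ℕ} [Fact p.Prime] (T : Sylow p G) :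
    ∃ T' : Sylow p ↥(psfG1 p G),
      (T' : Subgroup ↥(psfG1 p G)) = (T : Subgroup G).subgroupOf (psfG1 p G) :=
  ⟨T.subtype (psf_sylow_le_G1 T), Sylow.coe_subtype _ _⟩

theorem psf_sylow_G2 [Finite G] {p : ℕ} [Fact p.Prime] (T : Sylow p G) :
    ∃ T' : Sylow p ↥(psfG2 p G),
      (T' : Subgroup ↥(psfG2 p G)) = (T : Subgroup G).subgroupOf (psfG2 p G) :=
  psf_sylow_of_normal (psfG2 p G) T

/-! ### Characteristic `p` -/

/-- `O_p(N) = O_p(G) ∩ N` for a normal subgroup `N`. -/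
theorem psf_pCore_of_normal (p : ℕ) (N : Subgroup G) [hN : N.Normal] :
    (Cfsg.pCore p ↥N).map N.subtype = Cfsg.pCore p G ⊓ N := by
  apply le_antisymm
  · apply le_inf
    · apply Cfsg.Agent.Helper5.le_pCore
      · have h2 := Cfsg.Agent.Helper4.SubnormalPRad.pCore_char p ↥N
        constructor
        intro n hn g
        obtain ⟨y, hy, rfl⟩ := hn
        have hmem : g * (y : G) * g⁻¹ ∈ N := hN.conj_mem _ y.2 g
        refine ⟨⟨g * (y : G) * g⁻¹, hmem⟩, ?_, rfl⟩
        -- conjugation by `g` is an automorphism of `N`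
        have h3 := (Subgroup.characteristic_iff_map_le.mp h2) (MulAut.conjNormal g : MulAut ↥N)
        exact h3 ⟨y, hy, Subtype.ext (by simp [MulAut.conjNormal_apply])⟩
      · exact (Cfsg.Agent.Helper5.isPGroup_pCore p).map _
    · exact Subgroup.map_subtype_le _
  · have h2 : (Cfsg.pCore p G).subgroupOf N ≤ Cfsg.pCore p ↥N := by
      apply Cfsg.Agent.Helper5.le_pCore
      · exact Subgroup.normal_subgroupOf
      · exact (Cfsg.Agent.Helper5.isPGroup_pCore p).comap_subtype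
    intro x hx
    exact ⟨⟨x, hx.2⟩, h2 (Subgroup.mem_subgroupOf.mpr hx.1), rfl⟩

/-- `O_p(O^{p'}(G)) = O_p(G)`. -/
theorem psf_pCore_G1 (p : ℕ) [Fact p.Prime] :
    (Cfsg.pCore p ↥(psfG1 p G)).map (psfG1 p G).subtype = Cfsg.pCore p G := by
  apply le_antisymm
  · apply Cfsg.Agent.Helper5.le_pCore
    · have h1 := psfG1_characteristic (G := G) p
      have h2 := Cfsg.Agent.Helper4.SubnormalPRad.pCore_char p ↥(psfG1 p G)
      have h3 : ((Cfsg.pCore p ↥(psfG1 p G)).map (psfG1 p G).subtype).Characteristic :=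
        Subgroup.characteristic_of_characteristic_of_characteristic
      exact Subgroup.normal_of_characteristic _
    · exact (Cfsg.Agent.Helper5.isPGroup_pCore p).map _
  · have h1 : Cfsg.pCore p G ≤ psfG1 p G :=
      psf_le_G1_of_isPGroup' (Cfsg.Agent.Helper5.isPGroup_pCore p)
    have h2 : (Cfsg.pCore p G).subgroupOf (psfG1 p G) ≤ Cfsg.pCore p ↥(psfG1 p G) := by
      apply Cfsg.Agent.Helper5.le_pCore
      · exact Subgroup.normal_subgroupOf
      · exact (Cfsg.Agent.Helper5.isPGroup_pCore p).comap_subtype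
    intro x hx
    exact ⟨⟨x, h1 hx⟩, h2 (Subgroup.mem_subgroupOf.mpr hx), rfl⟩

theorem psf_hasCharP_G1 [Finite G] {p : ℕ} [Fact p.Prime] (h : Cfsg.Agent.Helper5.HasCharP p G) :
    Cfsg.Agent.Helper5.HasCharP p ↥(psfG1 p G) :=
  h.of_normal _

theorem psf_hasCharP_G2 [Finite G] {p : ℕ} [Fact p.Prime] (h : Cfsg.Agent.Helper5.HasCharP p G) :
    Cfsg.Agent.Helper5.HasCharP p ↥(psfG2 p G) :=
  h.of_normal _

/-- Raw form (fourth clause of `FusionSystem.IsModel`) for `psfG1`. -/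
theorem psf_charP_G1 [Finite G] {p : ℕ} [Fact p.Prime]
    (h : Subgroup.centralizer ((Cfsg.pCore p G : Subgroup G) : Set G) ≤ Cfsg.pCore p G) :
    Subgroup.centralizer ((Cfsg.pCore p ↥(psfG1 p G) : Subgroup ↥(psfG1 p G)) : Set ↥(psfG1 p G)) ≤
      Cfsg.pCore p ↥(psfG1 p G) :=
  psf_hasCharP_G1 h

/-- Raw form (fourth clause of `FusionSystem.IsModel`) for `psfG2`. -/
theorem psf_charP_G2 [Finite G] {p : ℕ} [Fact p.Prime]
    (h : Subgroup.centralizer ((Cfsg.pCore p G : Subgroup G) : Set G) ≤ Cfsg.pCore p G) :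
    Subgroup.centralizer ((Cfsg.pCore p ↥(psfG2 p G) : Subgroup ↥(psfG2 p G)) : Set ↥(psfG2 p G)) ≤
      Cfsg.pCore p ↥(psfG2 p G) :=
  psf_hasCharP_G2 h

/-- The same for `O^p` of the group `psfG1 p G` (transport along `psfG2Equiv`). -/
theorem psf_charP_pResidual_G1 [Finite G] {p : ℕ} [Fact p.Prime]
    (h : Subgroup.centralizer ((Cfsg.pCore p G : Subgroup G) : Set G) ≤ Cfsg.pCore p G) :
    Subgroup.centralizer ((Cfsg.pCore p ↥(Cfsg.pResidual p ↥(psfG1 p G)) :
      Subgroup ↥(Cfsg.pResidual p ↥(psfG1 p G))) : Set ↥(Cfsg.pResidual p ↥(psfG1 p G))) ≤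
      Cfsg.pCore p ↥(Cfsg.pResidual p ↥(psfG1 p G)) :=
  (psf_hasCharP_G2 h).of_equiv (psfG2Equiv p G)

/-- A finite group with trivial Sylow `p`-subgroup has order prime to `p`. -/
theorem psf_card_coprime_of_sylow_bot [Finite G] {p : ℕ} [hp : Fact p.Prime] (T : Sylow p G)
    (hT : (T : Subgroup G) = ⊥) : (Nat.card G).Coprime p := by
  have h1 := T.not_dvd_index
  rw [hT, Subgroup.index_bot] at h1
  rw [Nat.coprime_comm]
  exact (hp.out.coprime_iff_not_dvd).mpr h1

/-! ### `p`-solvability -/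

theorem psf_isPSolvable_of_card_pow {p : ℕ} (h : ∃ m : ℕ, Nat.card G = p ^ m) :
    Cfsg.IsPSolvable p G := by
  apply Cfsg.Agent.Helper4.SolvPSolv.isPSolvable_of_quotient (⊤ : Subgroup G)
  · left
    obtain ⟨m, hm⟩ := h
    exact ⟨m, by rw [Subgroup.card_top, hm]⟩
  · apply Cfsg.Agent.Helper1.QCore.isPSolvable_of_coprime
    rw [← Subgroup.index_eq_card, Subgroup.index_top]
    exact Nat.coprime_one_left p

theorem psf_isPSolvable_G1 {p : ℕ} [Fact p.Prime] (h : Cfsg.IsPSolvable p G) :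
    Cfsg.IsPSolvable p ↥(psfG1 p G) :=
  Cfsg.Agent.Helper4.isPSolvable_subgroup h _

theorem psf_isPSolvable_G2 {p : ℕ} [Fact p.Prime] (h : Cfsg.IsPSolvable p G) :
    Cfsg.IsPSolvable p ↥(psfG2 p G) :=
  Cfsg.Agent.Helper4.isPSolvable_subgroup h _

/-- `G` is `p`-solvable as soon as `O^p(O^{p'}(G))` is. -/
theorem psf_isPSolvable_of_G2 [Finite G] {p : ℕ} [Fact p.Prime]
    (h : Cfsg.IsPSolvable p ↥(psfG2 p G)) : Cfsg.IsPSolvable p G := by
  have h1 : Cfsg.IsPSolvable p ↥(psfG1 p G) := by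
    apply Cfsg.Agent.Helper1.QCore.isPSolvable_ext (Cfsg.pResidual p ↥(psfG1 p G))
    · exact Cfsg.Agent.Lead.PSolvGL2.isPSolvable_of_surjective (psfG2Equiv p G).toMonoidHom
        (psfG2Equiv p G).surjective h
    · apply psf_isPSolvable_of_card_pow
      obtain ⟨n, hn⟩ := Cfsg.Agent.Helper5.index_pResidual (G := ↥(psfG1 p G)) p
      exact ⟨n, by rw [← Subgroup.index_eq_card]; exact hn⟩
  apply Cfsg.Agent.Helper1.QCore.isPSolvable_ext (psfG1 p G) h1
  apply Cfsg.Agent.Helper1.QCore.isPSolvable_of_coprime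
  rw [← Subgroup.index_eq_card]
  exact psf_index_G1_coprime p

theorem psf_isPSolvable_iff_G2 [Finite G] {p : ℕ} [Fact p.Prime] :
    Cfsg.IsPSolvable p G ↔ Cfsg.IsPSolvable p ↥(psfG2 p G) :=
  ⟨psf_isPSolvable_G2, psf_isPSolvable_of_G2⟩

/-- The same with `O^p` of the group `psfG1 p G` in place of the subgroup `psfG2 p G` of `G`. -/
theorem psf_isPSolvable_iff_pResidual_G1 [Finite G] {p : ℕ} [Fact p.Prime] :
    Cfsg.IsPSolvable p G ↔ Cfsg.IsPSolvable p ↥(Cfsg.pResidual p ↥(psfG1 p G)) := by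
  rw [psf_isPSolvable_iff_G2 (p := p)]
  constructor
  · intro h
    exact Cfsg.Agent.Lead.PSolvGL2.isPSolvable_of_surjective (psfG2Equiv p G).toMonoidHom
      (psfG2Equiv p G).surjective h
  · intro h
    exact Cfsg.Agent.Lead.PSolvGL2.isPSolvable_of_surjective (psfG2Equiv p G).symm.toMonoidHom
      (psfG2Equiv p G).symm.surjective h

/-! ### Strict descent -/

/-- An element whose order is prime to the index of the normal subgroup `N` lies in `N`. -/
theorem psf_mem_of_coprime_index (N : Subgroup G) [N.Normal] {g : G}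
    (h : (orderOf g).Coprime N.index) : g ∈ N := by
  rw [← QuotientGroup.eq_one_iff, ← orderOf_eq_one_iff]
  have h1 : orderOf (g : G ⧸ N) ∣ orderOf g := orderOf_map_dvd (QuotientGroup.mk' N) g
  have h2 : orderOf (g : G ⧸ N) ∣ N.index := by
    rw [Subgroup.index_eq_card]; exact orderOf_dvd_natCard _
  have h3 := Nat.dvd_gcd h1 h2
  rw [h.gcd_eq_one] at h3
  exact Nat.dvd_one.mp h3

/-- A nontrivial `p`-solvable group has a proper normal subgroup of `p`-power index or of index prime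
to `p`. -/
theorem psf_exists_top_factor {p : ℕ} [Nontrivial G] (h : Cfsg.IsPSolvable p G) :
    ∃ N : Subgroup G, N.Normal ∧ N ≠ ⊤ ∧ ((∃ m : ℕ, N.index = p ^ m) ∨ N.index.Coprime p) := by
  obtain ⟨n, H, h0, hlast, -, hnorm, hfac⟩ := h
  have hex : ∃ j : ℕ, ∃ hj : j < n + 1, H ⟨j, hj⟩ = ⊤ := ⟨n, Nat.lt_succ_self n, hlast⟩
  classical
  obtain ⟨hj, hjtop⟩ := Nat.find_spec hex
  have hmin := fun k (hk : k < Nat.find hex) => Nat.find_min hex hk
  have hne0 : Nat.find hex ≠ 0 := by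
    intro h00
    have hzero : (⟨Nat.find hex, hj⟩ : Fin (n + 1)) = 0 := Fin.ext h00
    rw [hzero, h0] at hjtop
    exact bot_ne_top hjtop
  obtain ⟨i, hi⟩ := Nat.exists_eq_succ_of_ne_zero hne0
  have hin : i < n := by omega
  have hNtop : H (⟨i, hin⟩ : Fin n).castSucc ≠ ⊤ := by
    intro htop
    exact hmin i (by omega) ⟨by omega, htop⟩
  have hsucc : H (⟨i, hin⟩ : Fin n).succ = ⊤ := by
    have : (⟨i, hin⟩ : Fin n).succ = ⟨Nat.find hex, hj⟩ := Fin.ext (by simp only [Fin.succ_mk]; omega)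
    rw [this]; exact hjtop
  refine ⟨H (⟨i, hin⟩ : Fin n).castSucc, hnorm _, hNtop, ?_⟩
  have := hfac ⟨i, hin⟩
  rw [hsucc, Subgroup.relIndex_top_right] at this
  exact this

/-- Strict descent: for a nontrivial finite `p`-solvable group, `O^p(O^{p'}(G))` is a proper subgroup. -/
theorem psf_G2_ne_top [Finite G] {p : ℕ} [Fact p.Prime] [Nontrivial G]
    (h : Cfsg.IsPSolvable p G) : ∃ N : Subgroup G, N.Normal ∧ N ≠ ⊤ ∧ psfG2 p G ≤ N := by
  obtain ⟨N, hN, hNtop, hidx⟩ := psf_exists_top_factor h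
  refine ⟨N, hN, hNtop, ?_⟩
  rcases hidx with ⟨m, hm⟩ | hc
  · refine (psfG2_le_pResidual p).trans ?_
    unfold Cfsg.pResidual
    rw [Subgroup.closure_le]
    intro g hg
    apply psf_mem_of_coprime_index
    rw [hm]
    exact Nat.Coprime.pow_right m hg
  · refine (psfG2_le_G1 p).trans ?_
    unfold psfG1
    rw [Subgroup.closure_le]
    rintro g ⟨k, hk⟩
    apply psf_mem_of_coprime_index
    rw [hk]
    exact Nat.Coprime.pow_left k hc.symm

theorem psf_card_G2_lt [Finite G] {p : ℕ} [Fact p.Prime] [Nontrivial G]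
    (h : Cfsg.IsPSolvable p G) : Nat.card ↥(psfG2 p G) < Nat.card G := by
  obtain ⟨N, -, hNtop, hle⟩ := psf_G2_ne_top h
  calc Nat.card ↥(psfG2 p G) ≤ Nat.card ↥N := Subgroup.card_le_of_le hle
    _ < Nat.card G :=
      lt_of_le_of_ne (Subgroup.card_le_card_group N) (fun hc => hNtop (Subgroup.eq_top_of_card_eq N hc))

/-! ### Lifting `p`-elements -/

/-- If `f g` is a `p`-element (and `g` has finite order), some power `g ^ m` is a `p`-element with
`f (g ^ m) = f g`. -/
theorem psf_lift_pElt {p : ℕ} [hp : Fact p.Prime] {H A : Type*} [Group H] [Group A] (f : H →* A)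
    (g : H) (hfin : IsOfFinOrder g) (hfg : ∃ k : ℕ, orderOf (f g) = p ^ k) :
    ∃ m : ℕ, (∃ j : ℕ, orderOf (g ^ m) = p ^ j) ∧ f (g ^ m) = f g := by
  obtain ⟨k, hk⟩ := hfg
  have hn0 : orderOf g ≠ 0 := (orderOf_pos_iff.mpr hfin).ne'
  obtain ⟨a, b, hb, hab⟩ := Nat.exists_eq_pow_mul_and_not_dvd hn0 p hp.out.ne_one
  have hcop : (p ^ k).Coprime b :=
    Nat.Coprime.pow_left k ((hp.out.coprime_iff_not_dvd).mpr hb)
  obtain ⟨m, hm1, hm0⟩ := Nat.chineseRemainder hcop 1 0
  refine ⟨m, ?_, ?_⟩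
  · apply psf_pElt_of_pow_eq_one (k := a)
    rw [← pow_mul]
    apply orderOf_dvd_iff_pow_eq_one.mp
    rw [hab, mul_comm]
    exact Nat.mul_dvd_mul ((Nat.modEq_zero_iff_dvd).mp hm0) dvd_rfl
  · rw [map_pow]
    conv_rhs => rw [← pow_one (f g)]
    rw [pow_eq_pow_iff_modEq, hk]
    exact hm1

/-- Lifting along `N_G(R) → Aut(R)`: an element of `N_G(R)` inducing a `p`-element of `Aut(R)` can be
replaced by a `p`-element of `N_G(R)` (a power of it, lying in `psfG1 p G`) inducing the same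
automorphism. -/
theorem psf_lift_normalizer [Finite G] {p : ℕ} [Fact p.Prime] (R : Subgroup G)
    (g : ↥(Subgroup.normalizer (R : Set G)))
    (hg : ∃ k : ℕ, orderOf (R.normalizerMonoidHom g) = p ^ k) :
    ∃ g' : ↥(Subgroup.normalizer (R : Set G)), (∃ j : ℕ, orderOf (g' : G) = p ^ j) ∧
      R.normalizerMonoidHom g' = R.normalizerMonoidHom g ∧ (g' : G) ∈ psfG1 p G ∧
      ∃ m : ℕ, g' = g ^ m := by
  obtain ⟨m, ⟨j, hj⟩, hm⟩ := psf_lift_pElt R.normalizerMonoidHom g (isOfFinOrder_of_finite g) hg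
  have hj' : orderOf ((g ^ m : ↥(Subgroup.normalizer (R : Set G))) : G) = p ^ j := by
    rw [Subgroup.orderOf_coe]; exact hj
  exact ⟨g ^ m, ⟨j, hj'⟩, hm, psf_mem_G1_of_pElt ⟨j, hj'⟩, m, rfl⟩

/-- Elementwise form: if `g ^ (p ^ k)` centralizes `R`, some power `g ^ m` is a `p`-element (so lies in
`psfG1 p G`) acting on `R` by conjugation exactly as `g` does. -/
theorem psf_lift_conj [Finite G] {p : ℕ} [Fact p.Prime] (R : Subgroup G) (g : G)
    (hg : ∃ k : ℕ, ∀ r ∈ R, g ^ p ^ k * r * (g ^ p ^ k)⁻¹ = r) :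
    ∃ m : ℕ, (∃ j : ℕ, orderOf (g ^ m) = p ^ j) ∧ g ^ m ∈ psfG1 p G ∧
      ∀ r ∈ R, g ^ m * r * (g ^ m)⁻¹ = g * r * g⁻¹ := by
  obtain ⟨k, hk⟩ := hg
  -- the cyclic group `⟨g⟩` modulo its part centralizing `R`
  let Z : Subgroup G := Subgroup.zpowers g
  let K : Subgroup ↥Z := (Subgroup.centralizer (R : Set G)).subgroupOf Z
  have hZc : IsMulCommutative ↥Z := inferInstance
  have hKn : K.Normal := Subgroup.normal_of_isMulCommutative K
  let x : ↥Z := ⟨g, Subgroup.mem_zpowers g⟩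
  have hxK : x ^ p ^ k ∈ K := by
    rw [Subgroup.mem_subgroupOf, Subgroup.mem_centralizer_iff]
    intro r hr
    have h1 := hk r hr
    have h2 : ((x ^ p ^ k : ↥Z) : G) = g ^ p ^ k := rfl
    rw [h2]
    calc r * g ^ p ^ k = (g ^ p ^ k * r * (g ^ p ^ k)⁻¹) * g ^ p ^ k := by rw [h1]
      _ = g ^ p ^ k * r := by group
  have hfx : ∃ j : ℕ, orderOf ((QuotientGroup.mk' K) x) = p ^ j := by
    apply psf_pElt_of_pow_eq_one (k := k)
    rw [← map_pow]
    exact (QuotientGroup.eq_one_iff _).mpr hxK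
  obtain ⟨m, ⟨j, hj⟩, hm⟩ := psf_lift_pElt (QuotientGroup.mk' K) x (isOfFinOrder_of_finite x) hfx
  have hj' : orderOf (g ^ m) = p ^ j := by
    have h2 : ((x ^ m : ↥Z) : G) = g ^ m := rfl
    rw [← h2, Subgroup.orderOf_coe]; exact hj
  refine ⟨m, ⟨j, hj'⟩, psf_mem_G1_of_pElt ⟨j, hj'⟩, ?_⟩
  have hc : (x ^ m)⁻¹ * x ∈ K := QuotientGroup.eq.mp hm
  rw [Subgroup.mem_subgroupOf, Subgroup.mem_centralizer_iff] at hc
  intro r hr
  have h3 := hc r hr
  have h4 : (((x ^ m)⁻¹ * x : ↥Z) : G) = (g ^ m)⁻¹ * g := rfl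
  rw [h4] at h3
  -- h3 : r * ((g^m)⁻¹ * g) = (g^m)⁻¹ * g * r
  calc g ^ m * r * (g ^ m)⁻¹ = g ^ m * (r * ((g ^ m)⁻¹ * g)) * g⁻¹ := by group
    _ = g ^ m * ((g ^ m)⁻¹ * g * r) * g⁻¹ := by rw [h3]
    _ = g * r * g⁻¹ := by group

/-! ### The frozen headers of `notes/S5156_headers.lean.txt` (section `groupside`), verbatim -/

section groupside
open Cfsg

theorem psf_le_G1_of_isPGroup [Finite G] (p : ℕ) [Fact p.Prime] {Q : Subgroup G} (hQ : IsPGroup p Q) :
    Q ≤ psfG1 p G :=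
  psf_le_G1_of_isPGroup' hQ

theorem psf_G1_index_coprime [Finite G] (p : ℕ) [Fact p.Prime] : (psfG1 p G).index.Coprime p :=
  psf_index_G1_coprime p

/-- characteristic `p` passes to normal subgroups (one line from Helper5/CharP `HasCharP.of_normal`). -/
theorem psf_charP_normal [Finite G] (p : ℕ) [Fact p.Prime] (N : Subgroup G) [N.Normal]
    (h : Subgroup.centralizer ((pCore p G : Subgroup G) : Set G) ≤ pCore p G) :
    Subgroup.centralizer ((pCore p ↥N : Subgroup ↥N) : Set ↥N) ≤ pCore p ↥N :=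
  Cfsg.Agent.Helper5.HasCharP.of_normal (p := p) h N

theorem psf_isPSolvable_G1_iff [Finite G] (p : ℕ) [Fact p.Prime] :
    IsPSolvable p ↥(psfG1 p G) ↔ IsPSolvable p G := by
  constructor
  · intro h1
    apply Cfsg.Agent.Helper1.QCore.isPSolvable_ext (psfG1 p G) h1
    apply Cfsg.Agent.Helper1.QCore.isPSolvable_of_coprime
    rw [← Subgroup.index_eq_card]
    exact psf_index_G1_coprime p
  · exact psf_isPSolvable_G1

theorem psf_isPSolvable_pResidual_iff {G : Type u} [Group G] [Finite G] (p : ℕ) [Fact p.Prime] :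
    IsPSolvable p ↥(Cfsg.pResidual p G) ↔ IsPSolvable p G := by
  constructor
  · intro h1
    apply Cfsg.Agent.Helper1.QCore.isPSolvable_ext (Cfsg.pResidual p G) h1
    apply psf_isPSolvable_of_card_pow
    obtain ⟨n, hn⟩ := Cfsg.Agent.Helper5.index_pResidual (G := G) p
    exact ⟨n, by rw [← Subgroup.index_eq_card]; exact hn⟩
  · intro h
    exact Cfsg.Agent.Helper4.isPSolvable_subgroup h _

/-- strict descent for nontrivial `p`-solvable groups. -/
theorem psf_card_lt {G : Type u} [Group G] [Finite G] (p : ℕ) [Fact p.Prime] (hG : IsPSolvable p G)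
    [Nontrivial G] : Nat.card ↥(Cfsg.pResidual p ↥(psfG1 p G)) < Nat.card G := by
  rw [← Nat.card_congr (psfG2Equiv p G).toEquiv]
  exact psf_card_G2_lt hG

/-- the `p`-part of `g` induces the same automorphism of `R` as `g` when the latter has `p`-power order. -/
theorem psf_exists_pow_lift [Finite G] (p : ℕ) [Fact p.Prime] (R : Subgroup G) (g : G)
    (hg : g ∈ Subgroup.normalizer (R : Set G))
    (hord : ∃ k : ℕ, ∀ x ∈ R, g ^ p ^ k * x * (g ^ p ^ k)⁻¹ = x) :
    ∃ m : ℕ, (∃ k : ℕ, orderOf (g ^ m) = p ^ k) ∧ ∀ x ∈ R, g ^ m * x * (g ^ m)⁻¹ = g * x * g⁻¹ := by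
  obtain ⟨m, h1, -, h3⟩ := psf_lift_conj R g hord
  exact ⟨m, h1, h3⟩

end groupside

end Cfsg.Agent.PSF
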