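import Mathlib
import Cfsg.Prelude.Def_FusionComponents
import Cfsg.Prelude.Def_Local
import Cfsg.Agent.PSF.ConstrUp3
import Cfsg.Agent.PSF.GroupSide
import Cfsg.Agent.Helper5.CharP
import Cfsg.Agent.Helper5.Cores
import Cfsg.Agent.Helper4.PCore
import Cfsg.Agent.Lead.FusionPResidual
import Cfsg.Agent.Lead.FusionNormalSub
import Cfsg.Agent.Lead.FusionSubsys
import Cfsg.Agent.Lead.PStabFus
import Cfsg.Agent.Lead.PrimeIdxD
import Cfsg.Agent.S5076

/-!
# The `p'`-residual of the fusion system of a group of characteristic `p` (helper5, S5156 project)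

For a finite group `G` with `C_G(O_p(G)) ≤ O_p(G)` and a Sylow `p`-subgroup `T`, the
`p'`-residual of `F_T(G)` is `F_T(O^{p'}(G))`, where `O^{p'}(G) = psfG1 p G` is the subgroup
generated by the `p`-elements.
-/

set_option autoImplicit false

namespace Cfsg.Agent.PSF

open Cfsg Cfsg.FusionSystem Cfsg.Agent.Lead Cfsg.Agent.Helper4.FusTr

section modelres1g
variable {G : Type*} [Group G]

/-- conjugation by `g` on the normal subgroup `Q ≤ T` is in `Aut_{F_T(G)}(Q)`. -/
theorem psf_conjNormal_mem_autGroup {T Q : Subgroup G} [Q.Normal] (hQT : Q ≤ T) (g : G) :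
    (MulAut.conjNormal g : MulAut Q) ∈ (groupFusionSystem T).autGroup Q := by
  rw [Fusion.mem_autGroup_iff _ hQT]
  exact ⟨hQT, fun x => hQT (SetLike.coe_mem _), g, fun x => rfl⟩

/-- an automorphism in `Aut_{F_T(G)}(P)` killed by a power of `p` is induced by a `p`-element,
so it lies in `Aut_{F_T(O^{p'}(G))}(P)`. -/
theorem psf_ppow_mem_autGroup_G1 [Finite G] (p : ℕ) [Fact p.Prime] {T : Subgroup G}
    (h : T ≤ psfG1 p G) {P : Subgroup G} (hP : P ≤ T) (α : MulAut P)
    (hα : α ∈ (groupFusionSystem T).autGroup P) (k : ℕ) (hk : α ^ p ^ k = 1) :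
    α ∈ (fusionSystemOfSubgroup (psfG1 p G) T h).autGroup P := by
  rw [Fusion.mem_autGroup_iff _ hP] at hα ⊢
  obtain ⟨-, hT, g, hg⟩ := hα
  have hg' : ∀ x : P, ((α x : P) : G) = g * (x : G) * g⁻¹ := fun x => hg x
  have hgN : g ∈ Subgroup.normalizer (P : Set G) := by
    rw [Subgroup.mem_normalizer_iff]
    intro x
    constructor
    · intro hx
      rw [← hg' ⟨x, hx⟩]
      exact (α ⟨x, hx⟩).2
    · intro hx
      have h1 := hg' (α.symm ⟨g * x * g⁻¹, hx⟩)
      rw [MulEquiv.apply_symm_apply] at h1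
      have h2 : x = ((α.symm ⟨g * x * g⁻¹, hx⟩ : P) : G) :=
        mul_left_cancel (mul_right_cancel h1)
      rw [h2]
      exact SetLike.coe_mem _
  have hpow : ∀ (n : ℕ) (x : P), (((α ^ n) x : P) : G) = g ^ n * (x : G) * (g ^ n)⁻¹ := by
    intro n
    induction n with
    | zero => intro x; simp
    | succ n ih =>
      intro x
      rw [pow_succ', MulAut.mul_apply, hg', ih, pow_succ']
      group
  have hord : ∃ k : ℕ, ∀ x ∈ P, g ^ p ^ k * x * (g ^ p ^ k)⁻¹ = x := by
    refine ⟨k, fun x hx => ?_⟩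
    have h3 := hpow (p ^ k) ⟨x, hx⟩
    rw [hk] at h3
    exact h3.symm
  obtain ⟨m, ⟨j, hj⟩, hm⟩ := psf_exists_pow_lift p P g hgN hord
  refine ⟨hP, hT, g ^ m, Subgroup.subset_closure ⟨j, hj⟩, fun x => ?_⟩
  rw [hm x x.2]
  exact hg x

/-- `F_T(O^{p'}(G))` has index prime to `p` in `F_T(G)`. -/
theorem psf_G1_hasPrimeToPIndexIn [Finite G] (p : ℕ) [Fact p.Prime] {T : Subgroup G}
    (h : T ≤ psfG1 p G) :
    (fusionSystemOfSubgroup (psfG1 p G) T h).HasPrimeToPIndexIn (groupFusionSystem T) p := by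
  refine ⟨?_, fun P hP => ?_⟩
  · rintro P φ ⟨h1, h2, g, -, hg⟩
    exact ⟨h1, h2, g, hg⟩
  · rw [Subgroup.map_le_iff_le_comap, Subgroup.closure_le]
    rintro α ⟨k, hk⟩
    show (α : MulAut P) ∈ (fusionSystemOfSubgroup (psfG1 p G) T h).autGroup P
    apply psf_ppow_mem_autGroup_G1 p h hP _ α.2 k
    have h1 := pow_orderOf_eq_one α
    rw [hk] at h1
    have h2 := congrArg (fun z : ↥((groupFusionSystem T).autGroup P) => (z : MulAut P)) h1
    simpa using h2

/-- `F_T(O^{p'}(G))` is saturated. -/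
theorem psf_G1_isSaturated [Finite G] (p : ℕ) [Fact p.Prime] (T : Sylow p G)
    (h : (T : Subgroup G) ≤ psfG1 p G) :
    (fusionSystemOfSubgroup (psfG1 p G) (T : Subgroup G) h).IsSaturated p := by
  apply Fusion.fusionSystemOfSubgroup_isSaturated p
  rw [Sylow.card_eq_multiplicity]
  congr 1
  have h1 : Nat.card G = Nat.card (psfG1 p G) * (psfG1 p G).index :=
    (Subgroup.card_mul_index _).symm
  have hp : p.Prime := Fact.out
  have h2 : ¬ p ∣ (psfG1 p G).index :=
    (Nat.Prime.coprime_iff_not_dvd hp).1 (psf_G1_index_coprime (G := G) p).symm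
  rw [h1, Nat.factorization_mul Nat.card_pos.ne' (Subgroup.index_ne_zero_of_finite),
    Finsupp.add_apply, Nat.factorization_eq_zero_of_not_dvd h2, add_zero]

/-- for a subsystem `E` of index prime to `p` in `F_T(G)` and `Q ≤ T` normal in `G`, conjugation by
any element of `O^{p'}(G)` on `Q` is in `Aut_E(Q)`. -/
theorem psf_G1_conj_mem_autGroup (p : ℕ) [Fact p.Prime] {T : Subgroup G}
    (E : FusionSystem T) (hE : E.HasPrimeToPIndexIn (groupFusionSystem T) p)
    {Q : Subgroup G} [Q.Normal] (hQT : Q ≤ T) (g : G) (hg : g ∈ psfG1 p G) :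
    (MulAut.conjNormal g : MulAut Q) ∈ E.autGroup Q := by
  have hle : psfG1 p G ≤ (E.autGroup Q).comap (MulAut.conjNormal (H := Q)) := by
    unfold psfG1
    rw [Subgroup.closure_le]
    rintro x ⟨k, hk⟩
    show (MulAut.conjNormal x : MulAut Q) ∈ E.autGroup Q
    have hmem := psf_conjNormal_mem_autGroup (T := T) hQT x
    have hdvd : orderOf (MulAut.conjNormal x : MulAut Q) ∣ p ^ k :=
      hk ▸ orderOf_map_dvd (MulAut.conjNormal (H := Q)) x
    obtain ⟨j, -, hj⟩ := (Nat.dvd_prime_pow (Fact.out : p.Prime)).1 hdvd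
    apply hE.2 Q hQT
    refine ⟨⟨_, hmem⟩, Subgroup.subset_closure ⟨j, ?_⟩, rfl⟩
    rw [← hj]
    exact Subgroup.orderOf_mk _ _
  exact hle hg

end modelres1g

theorem psf_pPrimeResidual_group {G : Type*} [Group G] [Finite G] (p : ℕ) [Fact p.Prime] (T : Sylow p G)
    (hchar : Subgroup.centralizer ((pCore p G : Subgroup G) : Set G) ≤ pCore p G)
    (E : FusionSystem (T : Subgroup G))
    (hE : (groupFusionSystem (T : Subgroup G)).IsPPrimeResidual p E)
    (h : (T : Subgroup G) ≤ psfG1 p G) :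
    ∀ P : Subgroup G, E.Hom P = (fusionSystemOfSubgroup (psfG1 p G) (T : Subgroup G) h).Hom P := by
  classical
  have hTp : IsPGroup p (T : Subgroup G) := T.isPGroup'
  have hFGsat : (groupFusionSystem (T : Subgroup G)).IsSaturated p := Cfsg.Agent.S5076.result p T
  have hXsat := psf_G1_isSaturated p T h
  have hXidx := psf_G1_hasPrimeToPIndexIn p h
  have hEX := hE.2.2 _ hXsat hXidx
  have hXFG := hXidx.1
  have hcl : ∀ P : Subgroup G, (fusionSystemOfSubgroup (psfG1 p G) (T : Subgroup G) h).IsCentric P →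
      (Subgroup.closure {α : ↥((fusionSystemOfSubgroup (psfG1 p G) (T : Subgroup G) h).autGroup P) |
          ∃ k : ℕ, orderOf α = p ^ k}).map
        ((fusionSystemOfSubgroup (psfG1 p G) (T : Subgroup G) h).autGroup P).subtype ≤
        E.autGroup P := by
    intro P hPc
    have hP : P ≤ T := hPc.1
    rw [Subgroup.map_le_iff_le_comap, Subgroup.closure_le]
    rintro α ⟨k, hk⟩
    show (α : MulAut P) ∈ E.autGroup P
    have hαFG : (α : MulAut P) ∈ (groupFusionSystem (T : Subgroup G)).autGroup P := by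
      have h1 := α.2
      rw [Fusion.mem_autGroup_iff _ hP] at h1 ⊢
      exact hXFG P h1
    apply hE.2.1.2 P hP
    refine ⟨⟨_, hαFG⟩, Subgroup.subset_closure ⟨k, ?_⟩, rfl⟩
    rw [← hk, Subgroup.orderOf_mk, Subgroup.orderOf_coe]
  obtain ⟨-, hdec, -⟩ := PrimeIdx.main p hTp _ hXsat E hEX hcl
  have hQn : (pCore p G).Normal := Cfsg.Agent.Helper4.pCore_normal
  have hQT : pCore p G ≤ T := Cfsg.Agent.Helper5.pCore_le_sylow T
  have hQc : (groupFusionSystem (T : Subgroup G)).IsCentric (pCore p G) := by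
    refine ⟨hQT, ?_⟩
    rintro R ⟨φ, ⟨-, -, g, hg⟩, rfl⟩
    have hR : φ.range = pCore p G := by
      ext y
      constructor
      · rintro ⟨x, rfl⟩
        rw [hg x]
        exact hQn.conj_mem _ x.2 g
      · intro hy
        have h1 : g⁻¹ * y * g ∈ pCore p G := by
          have h2 := hQn.conj_mem _ hy g⁻¹
          simpa using h2
        refine ⟨⟨g⁻¹ * y * g, h1⟩, ?_⟩
        rw [hg]
        show g * (g⁻¹ * y * g) * g⁻¹ = y
        group
    rw [hR]
    intro z hz
    exact hchar hz.2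
  have hAut : ∀ α : MulAut (T : Subgroup G),
      α ∈ (fusionSystemOfSubgroup (psfG1 p G) (T : Subgroup G) h).autGroup T → α ∈ E.autGroup T := by
    intro α hα
    rw [Fusion.mem_autGroup_iff _ le_rfl] at hα ⊢
    have hψFG : (T : Subgroup G).subtype.comp α.toMonoidHom ∈
        (groupFusionSystem (T : Subgroup G)).Hom T := hXFG _ hα
    obtain ⟨-, -, g, hgG1, hg⟩ := hα
    refine Fusion.mem_of_restrict_centric_mem p hTp _ hFGsat E hE.1 hE.2.1.1 T _ hψFG _
      (pCore p G) hQT hQc ?_ rfl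
    have hmem := psf_G1_conj_mem_autGroup p E hE.2.1 hQT g hgG1
    rw [Fusion.mem_autGroup_iff _ hQT] at hmem
    convert hmem using 1
    ext x
    exact hg ⟨x, hQT x.2⟩
  intro P
  apply Set.Subset.antisymm (hEX P)
  intro φ hφ
  obtain ⟨α, hα, φ₀, hφ₀, hv⟩ := hdec P φ hφ
  have hαE := hAut α hα
  rw [Fusion.mem_autGroup_iff _ le_rfl] at hαE
  have h0T : ∀ x : P, φ₀ x ∈ (T : Subgroup G) := (E.le_of_mem hφ₀).2
  have h4 := E.comp_mem hφ₀ hαE h0T
  convert h4 using 1
  ext x
  exact hv x (h0T x)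

end Cfsg.Agent.PSF
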