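import Mathlib
import Cfsg.Prelude.Def_FusionComponents
import Cfsg.Prelude.Def_Local
import Cfsg.Agent.PSF.Bridge
import Cfsg.Agent.PSF.GroupSide
import Cfsg.Agent.PSF.ModelRes1G

set_option autoImplicit false

/-!
# S5156, cut A: the `p'`-residual subsystem of a system with model `G` has model `O^{p'}(G)`
-/

universe u

namespace Cfsg.Agent.PSF

open Cfsg Cfsg.FusionSystem Cfsg.Agent.Lead Cfsg.Agent.Helper4.FusTr

section cutA

variable {Ω : Type*} [Group Ω] {S : Subgroup Ω}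

theorem psf_model_pPrimeResidual_aux2 [Finite S] (p : ℕ) [Fact p.Prime] (hS : IsPGroup p S)
    (F E : FusionSystem S) (hE : F.IsPPrimeResidual p E) {G : Type*} [Group G] [Finite G]
    (T0 : Sylow p G)
    (hchar : Subgroup.centralizer ((pCore p G : Subgroup G) : Set G) ≤ pCore p G)
    (e : ↥S ≃* ↥(T0 : Subgroup G))
    (hFimg : Img (W := S) (W' := (T0 : Subgroup G)) e F (groupFusionSystem (T0 : Subgroup G)))
    (h : (T0 : Subgroup G) ≤ psfG1 p G)
    (T1 : Subgroup G) (hT1 : T1 = (T0 : Subgroup G)) (EG : FusionSystem T1)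
    (hEG : Img (W := S) (W' := (T0 : Subgroup G)) e E EG) :
    Img (W := S) (W' := (T0 : Subgroup G)) e E
      (fusionSystemOfSubgroup (psfG1 p G) (T0 : Subgroup G) h) := by
  subst hT1
  have h1 := psf_img_isPPrimeResidual p hS hEG hFimg hE
  have h2 := psf_pPrimeResidual_group p T0 hchar EG h1 h
  exact psf_img_of_hom_eq hEG rfl h2

theorem psf_model_pPrimeResidual_aux1 [Finite S] (p : ℕ) [Fact p.Prime] (hS : IsPGroup p S)
    (F E : FusionSystem S) (hE : F.IsPPrimeResidual p E) {G : Type*} [Group G] [Finite G]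
    (T0 : Sylow p G)
    (hchar : Subgroup.centralizer ((pCore p G : Subgroup G) : Set G) ≤ pCore p G)
    (R : Subgroup G) (hR : (T0 : Subgroup G) = R) (e : ↥S ≃* ↥R)
    (hFimg : Img (W := S) (W' := R) e F (groupFusionSystem R))
    (h : (T0 : Subgroup G) ≤ psfG1 p G) :
    Img (W := S) (W' := R) e E (fusionSystemOfSubgroup (psfG1 p G) (T0 : Subgroup G) h) := by
  subst hR
  obtain ⟨EG, hEG⟩ := exists_img (W := S) (W' := (T0 : Subgroup G)) e E le_rfl
  exact psf_model_pPrimeResidual_aux2 p hS F E hE T0 hchar e hFimg h _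
    (mapS_self (W := S) (W' := (T0 : Subgroup G)) e) EG hEG

end cutA

section cuts

variable {Ω : Type u} [Group Ω] {S : Subgroup Ω}

/-- **Cut A**. -/
theorem psf_model_pPrimeResidual [Finite S] (p : ℕ) [Fact p.Prime] (hS : IsPGroup p S)
    (F : FusionSystem S) (_hF : F.IsSaturated p) (E : FusionSystem S) (hE : F.IsPPrimeResidual p E)
    (G : Type u) [Group G] (ι : S →* G) (hG : F.IsModel p G ι) :
    ∃ ι1 : S →* ↥(psfG1 p G), (∀ s : S, ((ι1 s : ↥(psfG1 p G)) : G) = ι s) ∧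
      E.IsModel p ↥(psfG1 p G) ι1 := by
  obtain ⟨hfin, hreal, ⟨T0, hT0⟩, hchar⟩ := hG
  have : Finite G := hfin
  have h : (T0 : Subgroup G) ≤ psfG1 p G := psf_sylow_le_G1 T0
  have hFimg := psf_realized_img F ι hreal
  have himg := psf_model_pPrimeResidual_aux1 p hS F E hE T0 hchar ι.range hT0
    (MonoidHom.ofInjective hreal.1) hFimg h
  have hι1 : ∀ s : S, ι s ∈ psfG1 p G := fun s => h (hT0 ▸ ⟨s, rfl⟩)
  refine ⟨ι.codRestrict (psfG1 p G) hι1, fun s => rfl, inferInstance, ?_, ?_, ?_⟩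
  · exact psf_isRealizedBy_of_img le_rfl E ι hreal.1 (psfG1 p G) (T0 : Subgroup G) h himg
      (ι.codRestrict (psfG1 p G) hι1) (fun x => rfl)
  · obtain ⟨T', hT'⟩ := psf_sylow_G1 T0
    refine ⟨T', ?_⟩
    rw [hT', hT0]
    ext x
    rw [Subgroup.mem_subgroupOf, MonoidHom.mem_range, MonoidHom.mem_range]
    constructor
    · rintro ⟨s, hs⟩
      exact ⟨s, Subtype.ext hs⟩
    · rintro ⟨s, rfl⟩
      exact ⟨s, rfl⟩
  · exact psf_charP_G1 hchar

end cuts

end Cfsg.Agent.PSF
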