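import Mathlib
import Cfsg.Prelude.Def_FusionComponents
import Cfsg.Prelude.Def_Local
import Cfsg.Agent.PSF.Bridge
import Cfsg.Agent.Helper5.CharP
import Cfsg.Agent.Lead.FusionPResidual

set_option autoImplicit false

/-!
# S5156 (p-solvable fusion systems), cut B: the `p`-residual of a model

If `G` is a model of the saturated system `E` (through `ι`) and `D` is the `p`-residual subsystem
`O^p(E)` over the hyperfocal subgroup, then `O^p(G)` is a model of `D` through the restriction of `ι`.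
-/

universe u

namespace Cfsg.Agent.PSF

open Cfsg Cfsg.FusionSystem Cfsg.Agent.Lead Cfsg.Agent.Helper4.FusTr

section cutB

variable {Ω : Type*} [Group Ω] {S : Subgroup Ω}

/-- The image of `O^p(E)` in the group, second step (free base subgroup of the image). -/
theorem psf_model_pResidual_aux2 [Finite S] (p : ℕ) [Fact p.Prime] (hS : IsPGroup p S)
    (E : FusionSystem S) (hE : E.IsSaturated p) (D : FusionSystem (E.hyperfocalSubgroup p))
    (hD : E.IsPResidual p D) {G : Type*} [Group G] [Finite G] (T0 : Sylow p G)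
    (e : ↥S ≃* ↥(T0 : Subgroup G))
    (hEimg : Img (W := S) (W' := (T0 : Subgroup G)) e E (groupFusionSystem (T0 : Subgroup G)))
    (T1 : Subgroup G) (hT1 : T1 = (groupFusionSystem (T0 : Subgroup G)).hyperfocalSubgroup p)
    (DG : FusionSystem T1) (hDG : Img (W := S) (W' := (T0 : Subgroup G)) e D DG) :
    ∃ h : (T0 : Subgroup G) ⊓ Cfsg.pResidual p G ≤ Cfsg.pResidual p G,
      Img (W := S) (W' := (T0 : Subgroup G)) e D
        (fusionSystemOfSubgroup (Cfsg.pResidual p G) ((T0 : Subgroup G) ⊓ Cfsg.pResidual p G) h) := by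
  subst hT1
  have hle : E.hyperfocalSubgroup p ≤ S := Fusion.hyperfocal_le E p
  have hfin : Finite ↥(E.hyperfocalSubgroup p) := Fusion.finite_of_le hle
  have hpg : IsPGroup p ↥(E.hyperfocalSubgroup p) := hS.to_le hle
  have hres : (groupFusionSystem (T0 : Subgroup G)).IsPResidual p DG :=
    ⟨Img.isSaturated p hpg hDG hD.1, psf_img_hasPPowerIndexIn p hS hE hDG hEimg hD.2⟩
  obtain ⟨h, hHom⟩ := Fusion.pResidual_group p T0 DG hres
  exact ⟨h, psf_img_of_hom_eq hDG (Fusion.hyperfocal_group_eq p T0).symm hHom⟩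

/-- The image of `O^p(E)` in the group, first step (free target of the partial isomorphism). -/
theorem psf_model_pResidual_aux1 [Finite S] (p : ℕ) [Fact p.Prime] (hS : IsPGroup p S)
    (E : FusionSystem S) (hE : E.IsSaturated p) (D : FusionSystem (E.hyperfocalSubgroup p))
    (hD : E.IsPResidual p D) {G : Type*} [Group G] [Finite G] (T0 : Sylow p G)
    (R : Subgroup G) (hR : (T0 : Subgroup G) = R) (e : ↥S ≃* ↥R)
    (hEimg : Img (W := S) (W' := R) e E (groupFusionSystem R)) :
    ∃ h : (T0 : Subgroup G) ⊓ Cfsg.pResidual p G ≤ Cfsg.pResidual p G,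
      Img (W := S) (W' := R) e D
        (fusionSystemOfSubgroup (Cfsg.pResidual p G) ((T0 : Subgroup G) ⊓ Cfsg.pResidual p G) h) := by
  subst hR
  have hle : E.hyperfocalSubgroup p ≤ S := Fusion.hyperfocal_le E p
  obtain ⟨DG, hDG⟩ := exists_img (W := S) (W' := (T0 : Subgroup G)) e D hle
  have hhyp : (groupFusionSystem (T0 : Subgroup G)).hyperfocalSubgroup p =
      mapS (W := S) (W' := (T0 : Subgroup G)) e (E.hyperfocalSubgroup p) :=
    Img.hyperfocal p hS hEimg hE
  exact psf_model_pResidual_aux2 p hS E hE D hD T0 e hEimg _ hhyp.symm DG hDG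

end cutB

section cuts

variable {Ω : Type u} [Group Ω] {S : Subgroup Ω}

/-- **Cut B**: `O^p(G)` is a model of `O^p(E)` when `G` is a model of `E`. -/
theorem psf_model_pResidual [Finite S] (p : ℕ) [Fact p.Prime] (hS : IsPGroup p S)
    (E : FusionSystem S) (hE : E.IsSaturated p) (D : FusionSystem (E.hyperfocalSubgroup p))
    (hD : E.IsPResidual p D) (G : Type u) [Group G] (ι : S →* G) (hG : E.IsModel p G ι) :
    ∃ ι2 : ↥(E.hyperfocalSubgroup p) →* ↥(Cfsg.pResidual p G),
      (∀ t : ↥(E.hyperfocalSubgroup p),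
        ((ι2 t : ↥(Cfsg.pResidual p G)) : G) = ι ⟨t, Fusion.hyperfocal_le E p t.2⟩) ∧
      D.IsModel p ↥(Cfsg.pResidual p G) ι2 := by
  obtain ⟨hfin, hreal, ⟨T0, hT0⟩, hchar⟩ := hG
  have : Finite G := hfin
  have hKn : (Cfsg.pResidual p G).Normal := pResidual_normal' p
  have hle : E.hyperfocalSubgroup p ≤ S := Fusion.hyperfocal_le E p
  set e : ↥S ≃* ↥ι.range := MonoidHom.ofInjective hreal.1 with he
  have hEimg := psf_realized_img E ι hreal
  obtain ⟨h, himg⟩ := psf_model_pResidual_aux1 p hS E hE D hD T0 ι.range hT0 e hEimg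
  -- the restriction of `ι`
  have hmem : ∀ t : ↥(E.hyperfocalSubgroup p),
      (ι.comp (Subgroup.inclusion hle)) t ∈ Cfsg.pResidual p G := by
    intro t
    have h1 : rel (W := S) (W' := ι.range) e (t : Ω) (ι ⟨t, hle t.2⟩) :=
      (psf_rel_ofInjective ι hreal.1 _ _).mpr ⟨hle t.2, rfl⟩
    have h2 : ι ⟨t, hle t.2⟩ ∈ mapS (W := S) (W' := ι.range) e (E.hyperfocalSubgroup p) :=
      mem_mapS_of_rel e h1 t.2
    rw [← himg.eq] at h2
    exact h2.2
  refine ⟨(ι.comp (Subgroup.inclusion hle)).codRestrict (Cfsg.pResidual p G) hmem,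
    fun t => rfl, inferInstance, ?_, ?_, ?_⟩
  · exact psf_isRealizedBy_of_img hle D ι hreal.1 (Cfsg.pResidual p G)
      ((T0 : Subgroup G) ⊓ Cfsg.pResidual p G) h himg _ (fun x => rfl)
  · have hcard : Nat.card ↥(((T0 : Subgroup G) ⊓ Cfsg.pResidual p G).subgroupOf (Cfsg.pResidual p G)) =
        p ^ (Nat.card ↥(Cfsg.pResidual p G)).factorization p := by
      rw [card_subgroupOf_of_le h]
      exact Fusion.card_sylow_inf_normal p T0 (Cfsg.pResidual p G)
    refine ⟨Sylow.ofCard _ hcard, ?_⟩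
    rw [Sylow.coe_ofCard]
    ext ⟨y, hy⟩
    rw [Subgroup.mem_subgroupOf, himg.eq, mem_mapS, MonoidHom.mem_range]
    constructor
    · rintro ⟨x, hx, hxy⟩
      obtain ⟨hxS, hxy'⟩ := (psf_rel_ofInjective ι hreal.1 _ _).mp hxy
      exact ⟨⟨x, hx⟩, Subtype.ext hxy'⟩
    · rintro ⟨t, ht⟩
      refine ⟨(t : Ω), t.2, (psf_rel_ofInjective ι hreal.1 _ _).mpr ⟨hle t.2, ?_⟩⟩
      exact congrArg Subtype.val ht
  · exact Cfsg.Agent.Helper5.HasCharP.of_normal (G := G) (p := p) hchar (Cfsg.pResidual p G)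

end cuts

end Cfsg.Agent.PSF
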